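import Groth.Agent.Etrest.ModSpec
import Groth.Agent.Sga4B.SpecArrow
import Mathlib.AlgebraicGeometry.Noetherian
import Mathlib.Topology.NoetherianSpace
import Mathlib.Topology.Sober

/-!
# Stalks of systems of locally constant sheaves of modules on a connected Noetherian scheme

* `isClopen_of_stable`: in a quasi-sober Noetherian space a set stable under specialization and
  generization is clopen;
* `induction_geom`: induction on geometric points of a connected Noetherian scheme;
* `stalkIso`: the isomorphism between stalk systems given by a specialization map.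
-/

set_option autoImplicit false
universe u v w

open CategoryTheory CategoryTheory.Limits AlgebraicGeometry Opposite

namespace K336.Conn

open Groth.Agent.Etrest Groth.Agent.Etrest.ModGerm

theorem isClosed_of_stable {T : Type*} [TopologicalSpace T] [TopologicalSpace.NoetherianSpace T]
    [QuasiSober T] {Z : Set T} (h : ∀ y z : T, y ⤳ z → (y ∈ Z ↔ z ∈ Z)) : IsClosed Z := by
  have hfin := TopologicalSpace.NoetherianSpace.finite_irreducibleComponents (α := T)
  have hZ : Z = ⋃ C ∈ {C ∈ irreducibleComponents T | C ⊆ Z}, C := by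
    ext z
    simp only [Set.mem_iUnion, Set.mem_ofPred_eq, exists_prop]
    constructor
    · intro hz
      refine ⟨irreducibleComponent z, ⟨irreducibleComponent_mem_irreducibleComponents z, ?_⟩,
        mem_irreducibleComponent⟩
      intro y hy
      have hirr := isIrreducible_irreducibleComponent (x := z)
      obtain ⟨η, hη⟩ := QuasiSober.sober hirr isClosed_irreducibleComponent
      have h1 : η ⤳ z := hη.specializes mem_irreducibleComponent
      have h2 : η ⤳ y := hη.specializes hy
      exact (h η y h2).1 ((h η z h1).2 hz)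
    · rintro ⟨C, ⟨-, hC⟩, hz⟩
      exact hC hz
  rw [hZ]
  refine Set.Finite.isClosed_biUnion (hfin.subset fun C hC => hC.1) fun C hC => ?_
  exact isClosed_of_mem_irreducibleComponents C hC.1

theorem isClopen_of_stable {T : Type*} [TopologicalSpace T] [TopologicalSpace.NoetherianSpace T]
    [QuasiSober T] {Z : Set T} (h : ∀ y z : T, y ⤳ z → (y ∈ Z ↔ z ∈ Z)) : IsClopen Z := by
  have h1 : IsClosed Zᶜ := isClosed_of_stable fun y z hyz => not_congr (h y z hyz)
  exact ⟨isClosed_of_stable h, isClosed_compl_iff.1 h1⟩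

/-- A property of points of a connected Noetherian scheme invariant under specialization and
generization holds everywhere if it holds at one point. -/
theorem induction_points {X : Scheme.{u}} [IsNoetherian X] [ConnectedSpace X] {P : X → Prop}
    (h : ∀ y z : X, y ⤳ z → (P y ↔ P z)) {x : X} (hx : P x) (y : X) : P y := by
  have h1 : IsClopen {z : X | P z} := isClopen_of_stable h
  have h2 := h1.eq_univ ⟨x, hx⟩
  have h3 : y ∈ {z : X | P z} := h2 ▸ Set.mem_univ y
  exact h3

/-- Every point is the image of a geometric point. -/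
theorem exists_geomPt (X : Scheme.{u}) (x : X) : ∃ (Ω : Type u) (_ : Field Ω) (_ : IsSepClosed Ω)
    (ξ : Spec (CommRingCat.of Ω) ⟶ X), ξ default = x := by
  obtain ⟨Ω, i1, i2, ξ, t, ht⟩ := Groth.Agent.EtpbcA.Germ.exists_geomPt (X := X) (U := EtCoh.top X) x
  refine ⟨Ω, i1, i2, ξ, ?_⟩
  have h := Groth.Agent.EtpbcA.Germ.hom_pt ξ t
  rw [ht] at h
  exact h.symm

variable {Λ : Type (u + 1)} [CommRing Λ] {X : Scheme.{u}}

/-- The isomorphism of stalk systems given by a specialization map, for a diagram of locally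
constant sheaves. -/
noncomputable def stalkIso {J : Type v} [Category.{w} J] (F : J ⥤ EtModW.Mod Λ X)
    (hF : ∀ j, EtModW.IsFTLocConst Λ (F.obj j))
    {Ω : Type u} [Field Ω] [IsSepClosed Ω] {s : Spec (CommRingCat.of Ω) ⟶ X}
    {Ω' : Type u} [Field Ω'] [IsSepClosed Ω'] {s' : Spec (CommRingCat.of Ω') ⟶ X}
    (a : Scheme.pointSmallEtale s' ⟶ Scheme.pointSmallEtale s) :
    F ⋙ EtModW.stalk Λ s ≅ F ⋙ EtModW.stalk Λ s' :=
  have : ∀ j, IsIso ((GrothendieckTopology.Point.Hom.sheafFiber (A := ModuleCat.{u + 1} Λ) a).app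
      (F.obj j)) := fun j => by
    have h := ModSpec.spMap_bijective_of_ftlc Λ (hF j) a
    exact (ConcreteCategory.isIso_iff_bijective _).2 h
  NatIso.ofComponents (fun j => asIso
    ((GrothendieckTopology.Point.Hom.sheafFiber (A := ModuleCat.{u + 1} Λ) a).app (F.obj j)))
    (fun {i j} f =>
      (GrothendieckTopology.Point.Hom.sheafFiber (A := ModuleCat.{u + 1} Λ) a).naturality (F.map f))

/-- The stalk systems of a diagram of locally constant sheaves of finite type at two geometric points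
of a connected Noetherian scheme are isomorphic. -/
theorem nonempty_stalkIso [IsNoetherian X] [ConnectedSpace X] {J : Type v} [Category.{w} J]
    (F : J ⥤ EtModW.Mod Λ X) (hF : ∀ j, EtModW.IsFTLocConst Λ (F.obj j))
    {Ω : Type u} [Field Ω] [IsSepClosed Ω] (s : Spec (CommRingCat.of Ω) ⟶ X)
    {Ω' : Type u} [Field Ω'] [IsSepClosed Ω'] (s' : Spec (CommRingCat.of Ω') ⟶ X) :
    Nonempty ((F ⋙ EtModW.stalk Λ s) ≅ (F ⋙ EtModW.stalk Λ s')) := by
  let P : X → Prop := fun y => ∀ (Ω : Type u) [Field Ω] [IsSepClosed Ω]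
    (ξ : Spec (CommRingCat.of Ω) ⟶ X), ξ default = y →
      Nonempty ((F ⋙ EtModW.stalk Λ s) ≅ (F ⋙ EtModW.stalk Λ ξ))
  have hsp : ∀ {Ω : Type u} [Field Ω] [IsSepClosed Ω] (ξ : Spec (CommRingCat.of Ω) ⟶ X)
      {Ω' : Type u} [Field Ω'] [IsSepClosed Ω'] (ξ' : Spec (CommRingCat.of Ω') ⟶ X),
      ξ' default ⤳ ξ default →
      Nonempty ((F ⋙ EtModW.stalk Λ ξ) ≅ (F ⋙ EtModW.stalk Λ ξ')) := by
    intro Ω _ _ ξ Ω' _ _ ξ' h
    obtain ⟨a⟩ := Groth.Agent.Sga4B.SpecArrow.nonempty_pointHom ξ ξ' h
    exact ⟨stalkIso F hF a⟩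
  have hP : ∀ y z : X, y ⤳ z → (P y ↔ P z) := by
    intro y z hyz
    constructor
    · intro h Ω _ _ ξ hξ
      obtain ⟨Ω₁, _, _, η, rfl⟩ := exists_geomPt X y
      obtain ⟨e⟩ := h Ω₁ η rfl
      obtain ⟨e'⟩ := hsp ξ η (hξ ▸ hyz)
      exact ⟨e ≪≫ e'.symm⟩
    · intro h Ω _ _ ξ hξ
      obtain ⟨Ω₁, _, _, η, rfl⟩ := exists_geomPt X z
      obtain ⟨e⟩ := h Ω₁ η rfl
      obtain ⟨e'⟩ := hsp η ξ (hξ ▸ hyz)
      exact ⟨e ≪≫ e'⟩
  have hs : P (s default) := fun Ω _ _ ξ hξ => hsp s ξ (hξ ▸ specializes_rfl)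
  exact induction_points hP hs (s' default) Ω' s' rfl

end K336.Conn
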