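import Groth.Agent.EtModW.K336.Sect
import Groth.Agent.Sga4h.LamPres857
import Groth.Agent.Sga4h.LamSerre
import Groth.Agent.Etrest.ModAb
import Groth.Agent.EtpbcA.SubSheaf
import Groth.Agent.Sga5.NoethObj
import Mathlib.AlgebraicGeometry.Noetherian

/-!
# Constructible sheaves of `Λ`-modules are the Noetherian objects

`X` a Noetherian scheme, `Λ` a Noetherian ring: `isNoetherianObject_iff`.
-/

set_option autoImplicit false
universe u

open CategoryTheory CategoryTheory.Limits AlgebraicGeometry Opposite
open scoped ZeroObject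

namespace K336.NoethCons

open Groth.Agent.Etrest Groth.Agent.Etrest.ModGerm Groth.Agent.Etcore.LFree
open Groth.Agent.Sga4h

attribute [local instance] Abelian.hasFiniteBiproducts

variable {Λ : Type (u + 1)} [CommRing Λ] {X : Scheme.{u}}

/-- Sections of a sequential colimit of sheaves of modules locally come from a stage. -/
theorem exists_local_of_isColimit {D : ℕ ⥤ EtModW.Mod Λ X} {c : Cocone D} (hc : IsColimit c)
    (U : X.Etale) (s : EtModW.sect Λ c.pt U) (x : U.left) :
    ∃ (m : ℕ) (V : X.Etale) (g : V ⟶ U) (v : V.left), g.left v = x ∧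
      ∃ t : EtModW.sect Λ (D.obj m) V, ev Λ (c.ι.app m) V t = res Λ c.pt g s := by
  have : PreservesFilteredColimitsOfSize.{0, 0} (forget AddCommGrpCat.{u + 1}) :=
    preservesFilteredColimitsOfSize_shrink.{0, u + 1, 0, u + 1} _
  have hp : PreservesColimitsOfSize.{0, 0} (ModAb.ab Λ X) :=
    preservesColimitsOfSize_shrink.{0, u + 1, 0, u + 1} _
  have hc' := isColimitOfPreserves (ModAb.ab Λ X) hc
  obtain ⟨m, V, g, v, hv, t, ht⟩ :=
    Groth.Agent.EtpbcA.SubSheaf.exists_locIm_of_isColimit hc' U s x
  exact ⟨m, V, g, v, hv, t, ht⟩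

theorem isEtale_left {U V : X.Etale} (g : V ⟶ U) : Etale g.left := inferInstance

/-- A morphism out of a sheaf which vanishes locally on a section vanishes on it. -/
theorem ev_eq_zero_of_local {F G : EtModW.Mod Λ X} (q : F ⟶ G) (U : X.Etale)
    (s : EtModW.sect Λ F U)
    (h : ∀ x : U.left, ∃ (V : X.Etale) (g : V ⟶ U), (∃ v : V.left, g.left v = x) ∧
      ev Λ q V (res Λ F g s) = 0) : ev Λ q U s = 0 := by
  refine sect_ext Λ G _ _ fun x => ?_
  obtain ⟨V, g, hv, e⟩ := h x
  refine ⟨V, g, hv, ?_⟩
  rw [map_zero, ← ev_res, e]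

variable [IsNoetherianRing Λ]

theorem isNoetherianObject_of_isConstructible [IsNoetherian X] {F : EtModW.Mod Λ X}
    (hF : EtModW.IsConstructible Λ F) : IsNoetherianObject F := by
  rw [isNoetherianObject_iff_monotone_chain_condition]
  intro c
  let D : ℕ ⥤ EtModW.Mod Λ X :=
    { obj := fun m => (c m : EtModW.Mod Λ X)
      map := fun {a b} g => Subobject.ofLE (c a) (c b) (c.monotone (leOfHom g))
      map_id := fun a => Subobject.ofLE_refl _
      map_comp := fun {a b d} g h => (Subobject.ofLE_comp_ofLE _ _ _ _ _).symm }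
  let co : Cocone D :=
    { pt := F
      ι := { app := fun m => (c m).arrow
             naturality := fun a b g => (Subobject.ofLE_arrow _).trans (Category.comp_id _).symm } }
  let p : colimit D ⟶ F := colimit.desc D co
  let φ : ∀ m, (c m : EtModW.Mod Λ X) ⟶ image p := fun m => colimit.ι D m ≫ factorThruImage p
  have hφ : ∀ m, φ m ≫ image.ι p = (c m).arrow := by
    intro m
    change (colimit.ι D m ≫ factorThruImage p) ≫ image.ι p = _
    rw [Category.assoc, image.fac]
    exact colimit.ι_desc co m
  have hφle : ∀ {a b : ℕ} (h : a ≤ b), Subobject.ofLE _ _ (c.monotone h) ≫ φ b = φ a := by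
    intro a b h
    rw [← cancel_mono (image.ι p), Category.assoc, hφ, hφ, Subobject.ofLE_arrow]
  have hG : EtModW.IsConstructible Λ (image p) := LamSerre.isConstructible_of_mono (image.ι p) hF
  obtain ⟨n, U, hU, s, hs⟩ := LamPres857.exists_epi (image p) hG
  -- every section of the image over a quasi-compact object is killed by `coker φ_m` for `m` large
  have key : ∀ i, ∃ m, ∀ m', m ≤ m' → ev Λ (cokernel.π (φ m')) (U i) (s i) = 0 := by
    intro i
    have := hU i
    have h1 : ∀ x : (U i).left, ∃ (m : ℕ) (V : X.Etale) (g : V ⟶ U i) (v : V.left),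
        g.left v = x ∧ ∃ t : EtModW.sect Λ (c m : EtModW.Mod Λ X) V,
          ev Λ (φ m) V t = res Λ _ g (s i) := by
      intro x
      obtain ⟨V, g, t, ⟨v, hv⟩, e⟩ := Sect.exists_local (factorThruImage p) (U i) (s i) x
      obtain ⟨m, W, k, w, hw, r, hr⟩ := exists_local_of_isColimit (colimit.isColimit D) V t v
      refine ⟨m, W, k ≫ g, w, ?_, r, ?_⟩
      · change (k.left ≫ g.left) w = x
        rw [Scheme.Hom.comp_apply, hw, hv]
      · rw [res_comp, ← e, ← ev_res]
        exact congrArg (ev Λ (factorThruImage p) W) hr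
    choose m V g v hv t ht using h1
    have hopen : ∀ x, IsOpen (Set.range (g x).left) := fun x => by
      have := isEtale_left (g x)
      exact (g x).left.isOpenMap.isOpen_range
    obtain ⟨T, hT⟩ := isCompact_univ.elim_finite_subcover (fun x => Set.range (g x).left) hopen
      (fun x _ => Set.mem_iUnion.2 ⟨x, ⟨v x, hv x⟩⟩)
    refine ⟨T.sup m, fun m' hm' => ev_eq_zero_of_local _ _ _ fun y => ?_⟩
    obtain ⟨x, hx⟩ := Set.mem_iUnion.1 (hT (Set.mem_univ y))
    obtain ⟨hxT, w, hw⟩ := Set.mem_iUnion.1 hx
    refine ⟨V x, g x, ⟨w, hw⟩, ?_⟩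
    have hle : m x ≤ m' := (Finset.le_sup hxT).trans hm'
    rw [← ht x, ← hφle hle]
    have h2 : (Subobject.ofLE _ _ (c.monotone hle) ≫ φ m') ≫ cokernel.π (φ m') = 0 := by
      rw [Category.assoc, cokernel.condition, comp_zero]
    exact congrArg (fun q => ev Λ q (V x) (t x)) h2
  choose m hm using key
  let N := Finset.univ.sup m
  have hN : ∀ m', N ≤ m' → Epi (φ m') := by
    intro m' hm'
    apply Preadditive.epi_of_cokernel_zero
    rw [← cancel_epi (LamPres857.mor U s), comp_zero]
    apply biproduct.hom_ext'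
    intro i
    rw [← Category.assoc, LamPres857.ι_mor, comp_zero]
    apply hom_ext
    have h3 := hm i m' ((Finset.le_sup (Finset.mem_univ i)).trans hm')
    have h4 := desc_gen (s i)
    refine (congrArg (fun z => ev Λ (cokernel.π (φ m')) (U i) z) h4).trans ?_
    exact h3
  have hiso : ∀ m', N ≤ m' → IsIso (φ m') := by
    intro m' hm'
    have := hN m' hm'
    have : Mono (φ m') := by
      have h1 : Mono (φ m' ≫ image.ι p) := by rw [hφ]; infer_instance
      exact mono_of_mono (φ m') (image.ι p)
    exact isIso_of_mono_of_epi _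
  have := hiso N le_rfl
  refine ⟨N, fun m hm => le_antisymm (c.monotone hm) ?_⟩
  refine Subobject.le_of_comm (φ m ≫ inv (φ N)) ?_
  rw [← hφ N, Category.assoc, IsIso.inv_hom_id_assoc, hφ]

/-- The subobjects of `F` which are images of constructible sheaves. -/
def ImC (F : EtModW.Mod Λ X) : Set (Subobject F) :=
  {S | ∃ (G : EtModW.Mod Λ X) (ψ : G ⟶ F), EtModW.IsConstructible Λ G ∧ S = imageSubobject ψ}

theorem isConstructible_of_isNoetherianObject [IsNoetherian X] (F : EtModW.Mod Λ X)
    [IsNoetherianObject F] : EtModW.IsConstructible Λ F := by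
  have hne : (ImC F).Nonempty :=
    ⟨_, 0, 0, LamSerre.isConstructible_of_isZero (isZero_zero _), rfl⟩
  obtain ⟨S, hS, hmax⟩ := WellFounded.has_min (wellFounded_gt (α := Subobject F)) (ImC F) hne
  obtain ⟨G, ψ, hG, rfl⟩ := hS
  have hepi : Epi ψ := by
    apply Preadditive.epi_of_cokernel_zero
    apply Sheaf.hom_ext
    apply NatTrans.ext
    funext V
    ext z
    change ev Λ (cokernel.π ψ) V.unop z = 0
    refine ev_eq_zero_of_local _ _ _ fun x => ?_
    obtain ⟨U, hU, g, w, hw⟩ := Groth.Agent.EtpbcA.Present.exists_affine_nhd V.unop x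
    refine ⟨U, g, ⟨w, hw⟩, ?_⟩
    let s : EtModW.sect Λ F U := res Λ F g z
    change ev Λ (cokernel.π ψ) U s = 0
    let σ : LM Λ U ⟶ F := desc s
    have hmem : imageSubobject (biprod.desc ψ σ) ∈ ImC F :=
      ⟨G ⊞ LM Λ U, biprod.desc ψ σ,
        LamSerre.isConstructible_biprod hG
          (Groth.Agent.Etcore.LFreePull.isConstructible_LM_of_affine U), rfl⟩
    have hle : imageSubobject ψ ≤ imageSubobject (biprod.desc ψ σ) := by
      have : ψ = biprod.inl ≫ biprod.desc ψ σ := by simp
      conv_lhs => rw [this]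
      exact imageSubobject_comp_le _ _
    have heq : imageSubobject (biprod.desc ψ σ) = imageSubobject ψ := by
      by_contra hne
      exact hmax _ hmem (lt_of_le_of_ne hle (Ne.symm hne))
    have hσ : imageSubobject σ ≤ imageSubobject ψ := by
      rw [← heq]
      have : σ = biprod.inr ≫ biprod.desc ψ σ := by simp
      conv_lhs => rw [this]
      exact imageSubobject_comp_le _ _
    have hπ : (imageSubobject ψ).arrow ≫ cokernel.π ψ = 0 := by
      rw [← cancel_epi (factorThruImageSubobject ψ), ← Category.assoc,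
        imageSubobject_arrow_comp, cokernel.condition, comp_zero]
    have hσπ : σ ≫ cokernel.π ψ = 0 := by
      rw [← imageSubobject_arrow_comp σ, ← Subobject.ofLE_arrow hσ, Category.assoc,
        Category.assoc, hπ, comp_zero, comp_zero]
    have h1 := congrArg (fun q => ev Λ q U (gen Λ U)) hσπ
    refine Eq.trans ?_ h1
    exact congrArg (fun z => ev Λ (cokernel.π ψ) U z) (desc_gen s).symm
  exact LamSerre.isConstructible_of_epi ψ hG

/-- On a Noetherian scheme, with Noetherian coefficients, the constructible sheaves of modules are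
the Noetherian objects. -/
theorem isNoetherianObject_iff [IsNoetherian X] (F : EtModW.Mod Λ X) :
    IsNoetherianObject F ↔ EtModW.IsConstructible Λ F :=
  ⟨fun _ => isConstructible_of_isNoetherianObject F, isNoetherianObject_of_isConstructible⟩

end K336.NoethCons
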