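import Groth.Agent.EtModW.K336.Stk

/-!
# Stalkwise criteria for sheaves of modules
-/

set_option autoImplicit false
universe u

open CategoryTheory CategoryTheory.Limits AlgebraicGeometry Opposite
open Groth.Agent.Etrest Groth.Agent.Etrest.ModGerm

namespace K336.Stk

variable {Λ : Type (u + 1)} [CommRing Λ] {X : Scheme.{u}}

/-- A morphism of sheaves of modules vanishing on stalks is zero. -/
theorem hom_eq_zero_of_stalk {F G : EtModW.Mod Λ X} (φ : F ⟶ G)
    (h : ∀ (Ω : Type u) [Field Ω] [IsSepClosed Ω] (ξ : Spec (CommRingCat.of Ω) ⟶ X),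
      (EtModW.stalk Λ ξ).map φ = 0) : φ = 0 := by
  apply Sheaf.hom_ext
  apply NatTrans.ext
  funext V
  ext z
  change ev Λ φ V.unop z = 0
  refine sect_ext_germ Λ G _ _ fun Ω _ _ ξ t => ?_
  rw [← stalkMap_germ, map_zero]
  have h1 : stalkMap Λ ξ φ = 0 := congrArg ModuleCat.Hom.hom (h Ω ξ)
  rw [h1]
  rfl

/-- A sheaf of modules with zero stalks is zero. -/
theorem isZero_of_stalk {F : EtModW.Mod Λ X}
    (h : ∀ (Ω : Type u) [Field Ω] [IsSepClosed Ω] (ξ : Spec (CommRingCat.of Ω) ⟶ X),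
      Subsingleton ((EtModW.stalk Λ ξ).obj F : Type (u + 1))) : IsZero F := by
  rw [IsZero.iff_id_eq_zero]
  refine hom_eq_zero_of_stalk _ fun Ω _ _ ξ => ?_
  have := h Ω ξ
  exact (ModuleCat.isZero_of_subsingleton _).eq_of_src _ _

/-- A morphism of sheaves of modules is a monomorphism if it is so on stalks. -/
theorem mono_of_stalk {F G : EtModW.Mod Λ X} (φ : F ⟶ G)
    (h : ∀ (Ω : Type u) [Field Ω] [IsSepClosed Ω] (ξ : Spec (CommRingCat.of Ω) ⟶ X),
      Function.Injective (stalkMap Λ ξ φ)) : Mono φ := by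
  refine Preadditive.mono_of_cancel_zero φ fun {K} g hg => hom_eq_zero_of_stalk _ fun Ω _ _ ξ => ?_
  have := (ModuleCat.mono_iff_injective ((EtModW.stalk Λ ξ).map φ)).2 (h Ω ξ)
  rw [← cancel_mono ((EtModW.stalk Λ ξ).map φ), zero_comp, ← Functor.map_comp, hg, Functor.map_zero]

/-- A morphism of sheaves of modules is an epimorphism if it is so on stalks. -/
theorem epi_of_stalk {F G : EtModW.Mod Λ X} (φ : F ⟶ G)
    (h : ∀ (Ω : Type u) [Field Ω] [IsSepClosed Ω] (ξ : Spec (CommRingCat.of Ω) ⟶ X),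
      Function.Surjective (stalkMap Λ ξ φ)) : Epi φ := by
  refine Preadditive.epi_of_cancel_zero φ fun {K} g hg => hom_eq_zero_of_stalk _ fun Ω _ _ ξ => ?_
  have := (ModuleCat.epi_iff_surjective ((EtModW.stalk Λ ξ).map φ)).2 (h Ω ξ)
  rw [← cancel_epi ((EtModW.stalk Λ ξ).map φ), comp_zero, ← Functor.map_comp, hg, Functor.map_zero]

theorem isIso_of_stalk {F G : EtModW.Mod Λ X} (φ : F ⟶ G)
    (h : ∀ (Ω : Type u) [Field Ω] [IsSepClosed Ω] (ξ : Spec (CommRingCat.of Ω) ⟶ X),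
      Function.Bijective (stalkMap Λ ξ φ)) : IsIso φ := by
  have := mono_of_stalk φ fun Ω _ _ ξ => (h Ω ξ).1
  have := epi_of_stalk φ fun Ω _ _ ξ => (h Ω ξ).2
  exact isIso_of_mono_of_epi φ

/-- Exactness on stalks. -/
theorem exact_of_stalk (S : ShortComplex (EtModW.Mod Λ X))
    (h : ∀ (Ω : Type u) [Field Ω] [IsSepClosed Ω] (ξ : Spec (CommRingCat.of Ω) ⟶ X),
      (S.map (EtModW.stalk Λ ξ)).Exact) : S.Exact := by
  rw [ShortComplex.exact_iff_kernel_ι_comp_cokernel_π_zero]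
  refine hom_eq_zero_of_stalk _ fun Ω _ _ ξ => ?_
  have h1 := h Ω ξ
  rw [Functor.map_comp]
  have h2 : (EtModW.stalk Λ ξ).map (kernel.ι S.g) ≫ (S.map (EtModW.stalk Λ ξ)).g = 0 := by
    change _ ≫ (EtModW.stalk Λ ξ).map S.g = 0
    rw [← Functor.map_comp, kernel.condition, Functor.map_zero]
  have h3 : (S.map (EtModW.stalk Λ ξ)).f ≫ (EtModW.stalk Λ ξ).map (cokernel.π S.f) = 0 := by
    change (EtModW.stalk Λ ξ).map S.f ≫ _ = 0
    rw [← Functor.map_comp, cokernel.condition, Functor.map_zero]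
  exact h1.comp_eq_zero h2 h3

end K336.Stk
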