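import Groth.Agent.EtModW.K336.Reflect
import Groth.Agent.EtModW.K336.Stk2
import Groth.Agent.EtModW.K336.NoethCons
import Groth.Agent.EtModW.K336.Conn

/-!
# Locality of the notion of AR `I`-adic system of constructible sheaves

* `isZero_of_points`, `isZero_of_surj`: vanishing of sheaves of modules;
* `isARAdic_of_surj`: descent of AR `I`-adicness along finite jointly surjective families;
* `isARAdic_of_stalk`: for systems of locally constant sheaves on a connected Noetherian scheme;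
* `ARC`: the notion in the statements, `arc_iff`.
-/

set_option autoImplicit false
universe u

open CategoryTheory CategoryTheory.Limits AlgebraicGeometry Opposite

namespace K336.ARLocal

open Groth.Agent.Etrest Groth.Agent.Etrest.ModGerm Groth.Agent.Sga5 Groth.Agent.Sga5.ARBasic
  Groth.Agent.Sga5.MLAR

variable {Λ : Type (u + 1)} [CommRing Λ] {X : Scheme.{u}}

/-- A sheaf of modules with a zero geometric stalk over each point is zero. -/
theorem isZero_of_points {F : EtModW.Mod Λ X}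
    (h : ∀ x : X, ∃ (Ω : Type u) (_ : Field Ω) (_ : IsSepClosed Ω)
      (ξ : Spec (CommRingCat.of Ω) ⟶ X), ξ default = x ∧
        Subsingleton ((EtModW.stalk Λ ξ).obj F : Type (u + 1))) : IsZero F := by
  rw [IsZero.iff_id_eq_zero]
  apply Sheaf.hom_ext
  apply NatTrans.ext
  funext V
  ext z
  change ev Λ (𝟙 F) V.unop z = 0
  refine K336.NoethCons.ev_eq_zero_of_local _ _ _ fun u => ?_
  obtain ⟨Ω, _, _, ξ, hξ, hs⟩ := h (V.unop.hom u)
  obtain ⟨t, ht⟩ := Scheme.pointSmallEtaleFiberObjToPreimage_surjective ξ hξ V.unop ⟨u, rfl⟩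
  have h0 : germ Λ ξ F t z = 0 := Subsingleton.elim _ _
  obtain ⟨W, g, v, hv, e⟩ := (germ_eq_zero_iff Λ ξ F t z).1 h0
  refine ⟨W, g, ⟨Groth.Agent.EtpbcA.Germ.pt ξ v, ?_⟩, ?_⟩
  · rw [← Groth.Agent.EtpbcA.Germ.pt_fmap, hv]
    exact congrArg Subtype.val ht
  · rw [e, map_zero]

/-- Inverse image along a jointly surjective family reflects zero objects. -/
theorem isZero_of_surj {K : Type*} {W : K → Scheme.{u}} (g : ∀ k, W k ⟶ X)
    (hg : ∀ x : X, ∃ (k : K) (w : W k), g k w = x) {F : EtModW.Mod Λ X}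
    (h : ∀ k, IsZero ((EtModW.pull Λ (g k)).obj F)) : IsZero F := by
  refine isZero_of_points fun x => ?_
  obtain ⟨k, w, rfl⟩ := hg x
  obtain ⟨Ω, i1, i2, ζ, rfl⟩ := K336.Conn.exists_geomPt (W k) w
  refine ⟨Ω, i1, i2, ζ ≫ g k, Scheme.Hom.comp_apply _ _ _, ?_⟩
  have h1 : IsZero ((EtModW.stalk Λ ζ).obj ((EtModW.pull Λ (g k)).obj F)) :=
    (EtModW.stalk Λ ζ).map_isZero (h k)
  exact ModuleCat.subsingleton_of_isZero (h1.of_iso (LD.mpull Λ (g k) F ζ))

/-- Descent of AR `I`-adicness along a finite jointly surjective family. -/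
theorem isARAdic_of_surj {K : Type} [Finite K] {W : K → Scheme.{u}} (g : ∀ k, W k ⟶ X)
    (hg : ∀ x : X, ∃ (k : K) (w : W k), g k w = x) {I : Ideal Λ} (hI : I.FG)
    {F : ARSys.PS (EtModW.Mod Λ X)} (hk : ARSys.TermKilled I F)
    (h : ∀ k, ARSys.IsARAdic I (F ⋙ EtModW.pull Λ (g k))) : ARSys.IsARAdic I F :=
  K336.Reflect.isARAdic_reflect (fun k => EtModW.pull Λ (g k))
    (fun _ hZ => isZero_of_surj g hg hZ) hI hk h

/-- The notion of AR `I`-adic system of constructible sheaves used in the statements. -/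
def ARC (I : Ideal Λ) (F : ARSys.PS (EtModW.Mod Λ X)) : Prop :=
  ARSys.TermKilled I F ∧ ∃ (Y : ARSys.PS (EtModW.Mod Λ X)) (v : Y ⟶ F), ARSys.IsAdic I Y ∧
    (∀ n : ℕ, EtModW.IsConstructible Λ (Y.obj (op n))) ∧ ARSys.IsARIso v

theorem ARC.isARAdic {I : Ideal Λ} {F : ARSys.PS (EtModW.Mod Λ X)} (h : ARC I F) :
    ARSys.IsARAdic I F := by
  obtain ⟨hk, Y, v, hY, -, hv⟩ := h
  exact ⟨hk, Y, v, hY, hv⟩

theorem arc_of_isARAdic [IsNoetherianRing Λ] [IsNoetherian X] {I : Ideal Λ}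
    {F : ARSys.PS (EtModW.Mod Λ X)} (hc : ∀ n : ℕ, EtModW.IsConstructible Λ (F.obj (op n)))
    (h : ARSys.IsARAdic I F) : ARC I F := by
  obtain ⟨hk, Y, v, hY, hv⟩ := h
  refine ⟨hk, Y, v, hY, fun n => ?_, hv⟩
  rw [← K336.NoethCons.isNoetherianObject_iff]
  exact ARAdicSub.isNoetherianObject_of_isARIso (J := I) hv (isStrict_of_isAdic hY)
    (fun n => K336.NoethCons.isNoetherianObject_of_isConstructible (hc n)) n

theorem ARC.pull [IsNoetherianRing Λ] {Y : Scheme.{u}} (f : Y ⟶ X) {I : Ideal Λ}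
    {F : ARSys.PS (EtModW.Mod Λ X)} (h : ARC I F) : ARC I (F ⋙ EtModW.pull Λ f) := by
  obtain ⟨hk, Y, v, hY, hYc, hv⟩ := h
  have hI : I.FG := IsNoetherian.noetherian I
  exact ⟨K336.ExactFun.termKilled_comp hk _, Y ⋙ EtModW.pull Λ f,
    Functor.whiskerRight v _, K336.Stk.isAdic_pull f hI hY,
    fun n => Groth.Agent.Etcore.LCrit.isConstructible_pull f _ (hYc n),
    K336.ExactFun.isARIso_whisker v hv _⟩

/-- Images of morphisms between locally constant sheaves of finite type. -/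
theorem ftlc_of_epi_mono [IsNoetherianRing Λ] {F I G : EtModW.Mod Λ X} (p : F ⟶ I) [Epi p]
    (i : I ⟶ G) [Mono i] (hF : EtModW.IsFTLocConst Λ F) (hG : EtModW.IsFTLocConst Λ G) :
    EtModW.IsFTLocConst Λ I := by
  have h1 : EtModW.IsFTLocConst Λ (cokernel (p ≫ i)) := ModFT.ftlc_cokernel _ hF hG
  have h2 : EtModW.IsFTLocConst Λ (Abelian.image (p ≫ i)) := ModFT.ftlc_kernel _ hG h1
  have e : Abelian.image (p ≫ i) ≅ I :=
    (Abelian.imageIsoImage (p ≫ i)) ≪≫
      (IsImage.isoExt (Image.isImage (p ≫ i)) (StrongEpiMonoFactorisation.toMonoIsImage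
        { I := I, m := i, e := p, fac := rfl, m_mono := inferInstance,
          e_strong_epi := strongEpi_of_epi p }))
  exact ModFT.ftlc_of_iso e h2

/-- A system of locally constant sheaves of finite type on a connected Noetherian scheme, with an AR
`I`-adic stalk system, is AR `I`-adic. -/
theorem isARAdic_of_stalk [IsNoetherianRing Λ] [IsNoetherian X] [ConnectedSpace X] {I : Ideal Λ}
    {F : ARSys.PS (EtModW.Mod Λ X)} (hl : ∀ n : ℕ, EtModW.IsFTLocConst Λ (F.obj (op n)))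
    (hk : ARSys.TermKilled I F) {Ω : Type u} [Field Ω] [IsSepClosed Ω]
    (s : Spec (CommRingCat.of Ω) ⟶ X) (h : ARSys.IsARAdic I (F ⋙ EtModW.stalk Λ s)) :
    ARSys.IsARAdic I F := by
  choose Ω' i1 i2 ξ hξ using K336.Conn.exists_geomPt X
  let G : X → (EtModW.Mod Λ X ⥤ ModuleCat.{u + 1} Λ) := fun x => EtModW.stalk Λ (ξ x)
  have a1 : ∀ x, (G x).Additive := fun x => inferInstanceAs (EtModW.stalk Λ (ξ x)).Additive
  have a2 : ∀ x, (G x).Linear Λ := fun x => inferInstanceAs ((EtModW.stalk Λ (ξ x)).Linear Λ)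
  have a3 : ∀ x, PreservesFiniteLimits (G x) := fun x =>
    inferInstanceAs (PreservesFiniteLimits (EtModW.stalk Λ (ξ x)))
  have a4 : ∀ x, PreservesFiniteColimits (G x) := fun x =>
    inferInstanceAs (PreservesFiniteColimits (EtModW.stalk Λ (ξ x)))
  have hG : ∀ Z : EtModW.Mod Λ X, (∀ x, IsZero ((G x).obj Z)) → IsZero Z := fun Z hZ =>
    isZero_of_points fun x => ⟨Ω' x, i1 x, i2 x, ξ x, hξ x, ModuleCat.subsingleton_of_isZero (hZ x)⟩
  obtain ⟨-, Y, v, hY, hv⟩ := h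
  have hML : ARSys.IsMLAR (F ⋙ EtModW.stalk Λ s) :=
    isMLAR_of_isARIso hv (isMLAR_of_isStrict (isStrict_of_isAdic hY))
  obtain ⟨r, hr⟩ := (isMLAR_iff _).1 hML
  have hU : UML F r := K336.Reflect.uml_reflect G hG fun x => by
    obtain ⟨e⟩ := K336.Conn.nonempty_stalkIso F (fun j => hl j.unop) s (ξ x)
    exact K336.Reflect.uml_of_iso e hr
  obtain ⟨E, i, p, hi, hE, hp, hpi, hnat, hC⟩ := exists_universal_images hU
  have hiAR : ARSys.IsARIso i := (isARIso_iff i).2 ⟨⟨0, kNull_of_mono i⟩, ⟨_, hC⟩⟩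
  have hEl : ∀ j, EtModW.IsFTLocConst Λ (E.obj j) := fun j => by
    have := mono_app i j.unop
    have := hp j.unop
    exact ftlc_of_epi_mono (p j.unop) (i.app (op j.unop)) (hl _) (hl _)
  have hEs : ARSys.IsARAdic I (E ⋙ EtModW.stalk Λ s) :=
    K336.Reflect.isARAdic_universal_comp (K := PUnit.{1}) (fun _ => EtModW.stalk Λ s) PUnit.unit
      ⟨K336.ExactFun.termKilled_comp hk _, Y, v, hY, hv⟩ i hiAR p hpi
  obtain ⟨c, hc0, hc⟩ := AdicCrit.fker_of_isARAdic (K336.ExactFun.isStrict_comp hE _) hEs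
  have h3 : ARSys.IsARAdic I E := by
    rw [AdicCrit.isARAdic_iff_fker_le_of_strict (Or.inl (IsNoetherian.noetherian I)) E hE
      (K336.Reflect.termKilled_of_mono i hk)]
    refine ⟨c, hc0, fun n => K336.Reflect.subLE_reflect G hG fun x => ?_⟩
    obtain ⟨e⟩ := K336.Conn.nonempty_stalkIso E hEl s (ξ x)
    exact K336.Reflect.subLE_of_iso e (hc n)
  obtain ⟨-, Z, w, hZ, hw⟩ := h3
  exact ⟨hk, Z, w ≫ i, hZ, isARIso_comp hw hiAR⟩

end K336.ARLocal
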