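import Mathlib.RingTheory.Ideal.Operations
import Mathlib.RingTheory.Finiteness.Ideal
import Mathlib.Algebra.Module.Submodule.Ker

/-!
# Limits of adic systems of modules

`(M_n)` is an inverse system of modules over `R` with surjective transition maps, `I ^ (n + 1)`
kills `M_n` and the kernel of `M_m → M_n` is `I ^ (n + 1) M_m`; `L` is its limit (given by the
existence and uniqueness of elements with prescribed components). For `I` finitely generated the
projection `L → M_n` is surjective with kernel `I ^ (n + 1) L`.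
-/

set_option autoImplicit false

namespace K336.LimAdic

variable {R : Type*} [CommRing R] {M : ℕ → Type*} [∀ n, AddCommGroup (M n)] [∀ n, Module R (M n)]
  {L : Type*} [AddCommGroup L] [Module R L] (π : ∀ n, L →ₗ[R] M n)
  (t : ∀ {n m : ℕ}, n ≤ m → M m →ₗ[R] M n)

/-- Surjectivity of the projections. -/
theorem surjective_π (hid : ∀ (n : ℕ) (x : M n), t le_rfl x = x)
    (hcomp : ∀ {n m k : ℕ} (h : n ≤ m) (h' : m ≤ k) (x : M k), t h (t h' x) = t (h.trans h') x)
    (hs : ∀ {n m : ℕ} (h : n ≤ m), Function.Surjective (t h))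
    (hex : ∀ x : ∀ n, M n, (∀ (n m : ℕ) (h : n ≤ m), t h (x m) = x n) → ∃ z, ∀ n, π n z = x n)
    (n : ℕ) : Function.Surjective (π n) := by
  intro x
  have h1 : ∀ k, ∃ f : M (n + k) → M (n + (k + 1)),
      ∀ y, t (Nat.add_le_add_left (Nat.le_succ k) n) (f y) = y := fun k =>
    ⟨_, Function.surjInv_eq (hs (Nat.add_le_add_left (Nat.le_succ k) n))⟩
  choose f hf using h1
  let y : ∀ k, M (n + k) := fun k => Nat.rec (motive := fun k => M (n + k)) x (fun k z => f k z) k
  have hy : ∀ k, t (Nat.add_le_add_left (Nat.le_succ k) n) (y (k + 1)) = y k := fun k => hf k (y k)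
  have hy' : ∀ k l (h : k ≤ l), t (Nat.add_le_add_left h n) (y l) = y k := by
    intro k l h
    induction l, h using Nat.le_induction with
    | base => exact hid _ _
    | succ l h ih => rw [← hcomp (Nat.add_le_add_left h n)
        (Nat.add_le_add_left (Nat.le_succ l) n), hy, ih]
  obtain ⟨z, hz⟩ := hex (fun j => t (Nat.le_add_left j n) (y j)) (fun j k h => by
    rw [hcomp, ← hy' j k h, hcomp])
  refine ⟨z, ?_⟩
  rw [hz]
  exact hy' 0 n (Nat.zero_le n)

/-- The kernels of the projections. -/
theorem ker_π {I : Ideal R} (hI : I.FG) (hπ : ∀ {n m : ℕ} (h : n ≤ m) (z : L),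
      t h (π m z) = π n z)
    (hkill : ∀ (n : ℕ) (a : R), a ∈ I ^ (n + 1) → ∀ x : M n, a • x = 0)
    (hker : ∀ {n m : ℕ} (h : n ≤ m), LinearMap.ker (t h) ≤ I ^ (n + 1) • (⊤ : Submodule R (M m)))
    (hex : ∀ x : ∀ n, M n, (∀ (n m : ℕ) (h : n ≤ m), t h (x m) = x n) → ∃ z, ∀ n, π n z = x n)
    (huniq : ∀ z, (∀ n, π n z = 0) → z = 0)
    (hsurj : ∀ n, Function.Surjective (π n)) (n : ℕ) :
    LinearMap.ker (π n) = I ^ (n + 1) • (⊤ : Submodule R L) := by
  apply le_antisymm
  swap
  · rw [Submodule.smul_le]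
    rintro a ha x -
    rw [LinearMap.mem_ker, map_smul]
    exact hkill n a ha _
  intro z hz
  obtain ⟨r, a, ha⟩ := Submodule.fg_iff_exists_fin_generating_family.1 (Ideal.FG.pow (n := n + 1) hI)
  -- images of `I ^ k • ⊤`
  have hmap : ∀ k m, (I ^ k • (⊤ : Submodule R L)).map (π m) = I ^ k • ⊤ := fun k m => by
    rw [Submodule.map_smul'', Submodule.map_top, LinearMap.range_eq_top.2 (hsurj m)]
  have hzero : ∀ k m, m < k → ∀ x ∈ I ^ k • (⊤ : Submodule R L), π m x = 0 := by
    intro k m hmk x hx
    have h1 : π m x ∈ I ^ k • (⊤ : Submodule R (M m)) := by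
      rw [← hmap]
      exact Submodule.mem_map_of_mem hx
    have h2 : I ^ k • (⊤ : Submodule R (M m)) ≤ ⊥ := by
      rw [Submodule.smul_le]
      rintro b hb y -
      exact hkill m b (Ideal.pow_le_pow_right hmk hb) y
    exact h2 h1
  -- the basic step
  have step : ∀ k (w : L), π (n + k) w = 0 →
      ∃ x : Fin r → L, (∀ i, x i ∈ I ^ k • (⊤ : Submodule R L)) ∧
        π (n + (k + 1)) (w - ∑ i, a i • x i) = 0 := by
    intro k w hw
    have h1 : π (n + (k + 1)) w ∈
        LinearMap.ker (t (Nat.add_le_add_left (Nat.le_succ k) n)) := by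
      rw [LinearMap.mem_ker, hπ, hw]
    have h2 := hker _ h1
    have h3 : I ^ (n + k + 1) = I ^ (n + 1) * I ^ k := by
      rw [← pow_add]; congr 1; omega
    rw [h3, Submodule.mul_smul, ← ha, ← hmap, ← Submodule.map_smul''] at h2
    obtain ⟨w', hw', e⟩ := h2
    have h4 : ∃ x : Fin r → L, (∀ i, x i ∈ I ^ k • (⊤ : Submodule R L)) ∧
        w' = ∑ i, a i • x i := by
      clear e
      refine Submodule.smul_induction_on hw' (fun c hc y hy => ?_) ?_
      · obtain ⟨c', rfl⟩ := Submodule.mem_span_range_iff_exists_fun R |>.1 hc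
        refine ⟨fun i => c' i • y, fun i => Submodule.smul_mem _ _ hy, ?_⟩
        rw [Finset.sum_smul]
        refine Finset.sum_congr rfl fun i _ => ?_
        rw [smul_smul, smul_eq_mul, mul_comm]
      · rintro y y' ⟨x, hx, rfl⟩ ⟨x', hx', rfl⟩
        refine ⟨fun i => x i + x' i, fun i => add_mem (hx i) (hx' i), ?_⟩
        rw [← Finset.sum_add_distrib]
        exact Finset.sum_congr rfl fun i _ => (smul_add _ _ _).symm
    obtain ⟨x, hx, rfl⟩ := h4
    refine ⟨x, hx, ?_⟩
    rw [map_sub, e, sub_self]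
  choose! X hX hX' using step
  -- the successive remainders
  obtain ⟨w, hw0, hws⟩ : ∃ w : ℕ → L, w 0 = z ∧
      ∀ k, w (k + 1) = w k - ∑ i, a i • X k (w k) i :=
    ⟨fun k => Nat.rec (motive := fun _ => L) z (fun k w => w - ∑ i, a i • X k w i) k,
      rfl, fun _ => rfl⟩
  have hw : ∀ k, π (n + k) (w k) = 0 := by
    intro k
    induction k with
    | zero => rw [hw0]; exact hz
    | succ k ih => rw [hws]; exact hX' k _ ih
  let S : ℕ → Fin r → L := fun k i => ∑ j ∈ Finset.range k, X j (w j) i
  have hS : ∀ k, w k = z - ∑ i, a i • S k i := by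
    intro k
    induction k with
    | zero => simp [S, hw0]
    | succ k ih =>
      have e : ∑ i, a i • S (k + 1) i = ∑ i, a i • S k i + ∑ i, a i • X k (w k) i := by
        rw [← Finset.sum_add_distrib]
        refine Finset.sum_congr rfl fun i _ => ?_
        rw [← smul_add]
        exact congrArg (a i • ·) (Finset.sum_range_succ _ _)
      rw [hws, e, ← sub_sub, ← ih]
  have hSstab : ∀ m k, m < k → ∀ i, π m (S k i) = π m (S (m + 1) i) := by
    intro m k h i
    induction k, (Nat.succ_le_of_lt h) using Nat.le_induction with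
    | base => rfl
    | succ k h ih =>
      rw [← ih (by omega)]
      simp only [S, Finset.sum_range_succ, map_add]
      rw [hzero k m (by omega) _ (hX k _ (hw k) i), add_zero]
  have hlim : ∀ i, ∃ y : L, ∀ m, π m y = π m (S (m + 1) i) := fun i =>
    hex (fun m => π m (S (m + 1) i)) fun m k h => by
      rw [hπ]
      exact hSstab m (k + 1) (by omega) i
  choose Y hY using hlim
  have hz' : z = ∑ i, a i • Y i := by
    rw [← sub_eq_zero]
    refine huniq _ fun m => ?_
    have h1 : π m (w (m + 1)) = 0 := by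
      rw [← hπ (show m ≤ n + (m + 1) by omega), hw, map_zero]
    rw [hS, map_sub, map_sum] at h1
    rw [map_sub, map_sum, ← h1]
    congr 1
    refine Finset.sum_congr rfl fun i _ => ?_
    rw [map_smul, map_smul, hY]
  rw [hz', ← ha]
  exact Submodule.sum_mem _ fun i _ =>
    Submodule.smul_mem_smul (Submodule.subset_span ⟨i, rfl⟩) trivial

end K336.LimAdic
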