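import Groth.Agent.Sga5.MLAR
import Groth.Agent.Sga5.StrictChain
import Groth.Agent.Sga5.ARAdicSub
import Groth.Agent.Sga5.ArtinRees
import Groth.Agent.EtModW.K336.LimAdic
import Mathlib.Algebra.Category.ModuleCat.Limits
import Mathlib.CategoryTheory.Limits.Types.Limits

/-!
# Chains of subsystems up to translation; limits of strict systems of modules

* `exists_stable`: an increasing sequence of uniformly Mittag-Leffler subsystems of a `J`-adic system
  with Noetherian components is constant up to translation from some index on;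
* `isZero_limit_of_isARNull`; `surjective_limit_π`: the limit of a strict system of modules.
-/

set_option autoImplicit false
universe w v u

open CategoryTheory CategoryTheory.Limits Opposite ARSys

namespace K336.ARSub

open Groth.Agent.Sga5.ARBasic Groth.Agent.Sga5.MLAR

section chain

variable {C : Type u} [Category.{v} C] [Abelian C]

/-- A morphism from a strict system factors through the system of universal images. -/
theorem exists_lift_of_strict {T Z I : PS C} (hT : IsStrict T) (j : T ⟶ Z) (i : I ⟶ Z) [Mono i]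
    {r : ℕ} (p : ∀ n : ℕ, Z.obj (op (n + r)) ⟶ I.obj (op n))
    (hp : ∀ n, p n ≫ i.app (op n) = tr Z (Nat.le_add_right n r)) :
    ∃ l : T ⟶ I, l ≫ i = j := by
  have h0 : j ≫ cokernel.π i = 0 := by
    apply hom_ext
    intro n
    have := hT n (n + r) (Nat.le_add_right n r)
    rw [← cancel_epi (tr T (Nat.le_add_right n r))]
    have h1 : tr T (Nat.le_add_right n r) ≫ j.app (op n) =
        j.app (op (n + r)) ≫ p n ≫ i.app (op n) := by
      rw [hp, tr_nat]
    have h2 : i.app (op n) ≫ (cokernel.π i).app (op n) = 0 := by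
      rw [← NatTrans.comp_app, cokernel.condition]
      rfl
    change tr T (Nat.le_add_right n r) ≫ j.app (op n) ≫ (cokernel.π i).app (op n) =
      tr T (Nat.le_add_right n r) ≫ (0 : T.obj (op n) ⟶ _)
    rw [← Category.assoc, h1, Category.assoc, Category.assoc, h2, comp_zero, comp_zero, comp_zero]
  exact ⟨Abelian.monoLift i j h0, Abelian.monoLift_comp _ _ _⟩

variable {A : Type w} [CommRing A] [Linear A C]

/-- An increasing sequence of uniformly Mittag-Leffler subsystems of a `J`-adic system with
Noetherian first component is constant up to translation from some index on. -/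
theorem exists_stable {J : Ideal A} (hJ : J.FG) {X : PS C} (hX : IsAdic J X)
    [IsNoetherianObject (X.obj (op 0))] (Z : ℕ →o Subobject X)
    (hZ : ∀ k : ℕ, IsMLAR ((Z k : PS C))) :
    ∃ k₀ : ℕ, ∀ k : ℕ, k₀ ≤ k →
      IsARIso (Subobject.ofLE (Z k) (Z (k + 1)) (Z.monotone (Nat.le_succ k))) := by
  choose r hr using fun k => (isMLAR_iff _).1 (hZ k)
  choose I i p hi hI hp hpi hnat hC using fun k => exists_universal_images (hr k)
  have hmono : ∀ k, Mono (i k ≫ (Z k).arrow) := fun k => mono_comp _ _
  let S : ℕ → Subobject X := fun k => Subobject.mk (i k ≫ (Z k).arrow)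
  have hle : ∀ k, S k ≤ S (k + 1) := by
    intro k
    obtain ⟨l, hl⟩ := exists_lift_of_strict (hI k)
      (i k ≫ Subobject.ofLE (Z k) (Z (k + 1)) (Z.monotone (Nat.le_succ k)))
      (i (k + 1)) (p (k + 1)) (hpi (k + 1))
    refine Subobject.mk_le_mk_of_comm l ?_
    rw [← Category.assoc, hl, Category.assoc, Subobject.ofLE_arrow]
  let S' : ℕ →o Subobject X := ⟨S, monotone_nat_of_le_succ hle⟩
  have hS : ∀ k, IsStrict ((S' k : PS C)) := by
    intro k n m h
    let e := Subobject.underlyingIso (i k ≫ (Z k).arrow)
    have := hI k n m h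
    have h1 : tr ((S' k : PS C)) h = e.hom.app (op m) ≫ tr (I k) h ≫ e.inv.app (op n) := by
      have h2 := tr_nat e.inv h
      rw [h2, ← Category.assoc, ← NatTrans.comp_app, e.hom_inv_id]
      exact (Category.id_comp _).symm
    rw [h1]
    have : IsIso (e.hom.app (op m)) := inferInstance
    have : IsIso (e.inv.app (op n)) := inferInstance
    exact epi_comp _ _
  obtain ⟨k₀, hk₀⟩ := Groth.Agent.Sga5.StrictChain.strict_chain hJ hX S' hS
  refine ⟨k₀, fun k hk => ?_⟩
  have hEq : S (k + 1) ≤ S k := by
    have h1 := hk₀ k hk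
    have h2 := hk₀ (k + 1) (hk.trans (Nat.le_succ k))
    change S k = S k₀ at h1
    change S (k + 1) = S k₀ at h2
    rw [h1, h2]
  let θ : I (k + 1) ⟶ I k := Subobject.ofMkLEMk _ _ hEq
  have hθ : θ ≫ i k ≫ Subobject.ofLE (Z k) (Z (k + 1)) (Z.monotone (Nat.le_succ k)) =
      i (k + 1) := by
    rw [← cancel_mono (Z (k + 1)).arrow]
    simp only [Category.assoc, Subobject.ofLE_arrow]
    exact Subobject.ofMkLEMk_comp hEq
  rw [isARIso_iff]
  refine ⟨⟨0, kNull_of_mono _⟩, ⟨r (k + 1), fun n m hm h T φ hφ => ?_⟩⟩
  apply hC (k + 1) n m hm h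
  rw [← hθ]
  change (θ.app (op n) ≫ (i k).app (op n) ≫ _) ≫ φ = 0
  rw [Category.assoc, Category.assoc, hφ, comp_zero, comp_zero]

end chain

section lim

/-- The limit of a null system is zero. -/
theorem isZero_limit_of_isARNull {C : Type u} [Category.{v} C] [Preadditive C]
    {X : PS C} [HasLimit X] (h : IsARNull X) : IsZero (limit X) := by
  obtain ⟨r, hr⟩ := h
  rw [IsZero.iff_id_eq_zero]
  apply limit.hom_ext
  rintro ⟨n⟩
  have h1 : limit.π X (op (n + r)) ≫ shiftMap X r n = limit.π X (op n) := limit.w X _
  rw [Category.id_comp, zero_comp, ← h1, hr]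
  exact comp_zero

variable {R : Type u} [CommRing R]

/-- Elements of the limit of a system of modules. -/
theorem exists_limit_elt (X : PS (ModuleCat.{v} R)) (x : ∀ n : ℕ, X.obj (op n))
    (hx : ∀ (n m : ℕ) (h : n ≤ m), (tr X h).hom (x m) = x n) :
    ∃ z : (limit X : ModuleCat.{v} R), ∀ n, (limit.π X (op n)).hom z = x n := by
  have h2 := isLimitOfPreserves (forget (ModuleCat.{v} R)) (limit.isLimit X)
  let s : (X ⋙ forget (ModuleCat.{v} R)).sections := ⟨fun j => x j.unop, by
    rintro ⟨i⟩ ⟨j⟩ f
    exact hx j i (leOfHom f.unop)⟩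
  refine ⟨(Types.isLimitEquivSections h2).symm s, fun n => ?_⟩
  exact Types.isLimitEquivSections_symm_apply h2 s (op n)

/-- The projections of the limit of a strict system of modules are surjective. -/
theorem surjective_limit_π (X : PS (ModuleCat.{v} R)) (hX : IsStrict X) (n : ℕ) :
    Function.Surjective (limit.π X (op n)).hom := by
  refine K336.LimAdic.surjective_π (M := fun n => X.obj (op n)) (fun n => (limit.π X (op n)).hom)
    (fun h => (tr X h).hom) (fun n x => ?_) (fun {n m k} h h' x => ?_) (fun {n m} h => ?_)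
    (fun x hx => exists_limit_elt X x hx) n
  · change (tr X (le_refl n)).hom x = x
    rw [tr_refl]
    rfl
  · change (tr X h).hom ((tr X h').hom x) = (tr X (h.trans h')).hom x
    rw [← tr_comp X h h']
    rfl
  · have := hX n m h
    exact (ModuleCat.epi_iff_surjective _).1 inferInstance

end lim

end K336.ARSub
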