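import Groth.Agent.EtModW.K336.Filt
import Groth.Agent.EtModW.K336.NoethCons
import Groth.Agent.Etrest.ModCons
import Groth.Agent.Etrest.ModFT
import Groth.Agent.Sga4h.GenLC657
import Mathlib.CategoryTheory.Linear.FunctorCategory

/-!
# Stratifications for adic systems of constructible sheaves of modules

* `exists_common_isCons`: finitely many constructible sheaves are simultaneously locally constant of
  finite type on the strata of a finite partition; `exists_common_dense`: on a dense open;
* `closed_FT`: the class of sheaves whose inverse image along `g` is locally constant of finite type;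
* `isCons_adic`, `exists_dense_adic`: the same for the members of an adic system.
-/

set_option autoImplicit false
universe u

open CategoryTheory CategoryTheory.Limits AlgebraicGeometry Opposite

namespace K336.AdicStrat

open Groth.Agent.Etrest Groth.Agent.Etrest.ModCons Groth.Agent.Etcore.StrataGen

variable {Λ : Type (u + 1)} [CommRing Λ] {X : Scheme.{u}}

theorem exists_common_isCons {ι : Type*} (s : Finset ι) (G : ι → EtModW.Mod Λ X)
    (hG : ∀ i ∈ s, EtModW.IsConstructible Λ (G i)) :
    Stable (X := X) (fun T g => ∀ i ∈ s, FT (G i) T g) ∧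
      IsCons (X := X) (fun T g => ∀ i ∈ s, FT (G i) T g) := by
  classical
  induction s using Finset.induction_on with
  | empty =>
    refine ⟨fun _ _ _ _ _ => by simp, ?_⟩
    refine IsCons.of_opens (fun _ _ _ _ _ => by simp) fun x => ⟨⊤, trivial, by simp⟩
  | insert j s hj ih =>
    obtain ⟨h1, h2⟩ := ih fun i hi => hG i (Finset.mem_insert_of_mem hi)
    refine ⟨fun T T' h g hg i hi => stable_FT (G i) T T' h g (hg i hi), ?_⟩
    refine IsCons.weaken (IsCons.inter (stable_FT (G j)) h1
      (hG j (Finset.mem_insert_self _ _)) h2) fun T g hg i hi => ?_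
    rcases Finset.mem_insert.1 hi with rfl | hi
    · exact hg.1
    · exact hg.2 i hi

theorem exists_common_dense [IsNoetherianRing Λ] [IsLocallyNoetherian X] {ι : Type*} (s : Finset ι)
    (G : ι → EtModW.Mod Λ X) (hG : ∀ i ∈ s, EtModW.IsConstructible Λ (G i)) :
    ∃ U : X.Opens, Dense (U : Set X) ∧ ∀ i ∈ s, FT (G i) U U.ι := by
  classical
  induction s using Finset.induction_on with
  | empty => exact ⟨⊤, dense_univ, by simp⟩
  | insert j s hj ih =>
    obtain ⟨U, hU, h1⟩ := ih fun i hi => hG i (Finset.mem_insert_of_mem hi)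
    obtain ⟨V, hV, h2⟩ := Groth.Agent.Sga4h.GenLC657.exists_dense_ftlc (G j)
      (hG j (Finset.mem_insert_self _ _))
    refine ⟨U ⊓ V, hU.inter_of_isOpen_left hV U.isOpen, fun i hi => ?_⟩
    rcases Finset.mem_insert.1 hi with rfl | hi
    · have := stable_FT (G i) _ _ (X.homOfLE (inf_le_right : U ⊓ V ≤ V)) V.ι h2
      rwa [Scheme.homOfLE_ι] at this
    · have := stable_FT (G i) _ _ (X.homOfLE (inf_le_left : U ⊓ V ≤ U)) U.ι (h1 i hi)
      rwa [Scheme.homOfLE_ι] at this

variable [IsNoetherianRing Λ]

/-- The class of sheaves of modules whose inverse image is locally constant of finite type. -/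
theorem closed_FT {T : Scheme.{u}} (g : T ⟶ X) :
    K336.Filt.Closed (C := EtModW.Mod Λ X) (fun G => FT G T g) where
  iso e h := FT_of_iso e g h
  zero h := ModFT.ftlc_of_isZero ((EtModW.pull Λ g).map_isZero h)
  ext S hS h1 h3 := ModFT.ftlc_extension (hS.map_of_exact (EtModW.pull Λ g)) h1 h3
  quot S hS h1 h2 := by
    have hS' := hS.map_of_exact (EtModW.pull Λ g)
    have := hS'.epi_g
    have h4 := ModFT.ftlc_cokernel (S.map (EtModW.pull Λ g)).f h1 h2
    have e : cokernel (S.map (EtModW.pull Λ g)).f ≅ (S.map (EtModW.pull Λ g)).X₃ :=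
      (cokernelIsCokernel _).coconePointUniqueUpToIso hS'.exact.gIsCokernel
    exact ModFT.ftlc_of_iso e h4

variable {I : Ideal Λ} [IsNoetherian X] {F : ARSys.PS (EtModW.Mod Λ X)}

/-- The data controlling all the members of an adic system of constructible sheaves: finitely many
constructible sheaves. -/
theorem exists_control (hF : ARSys.IsAdic I F)
    (hc : ∀ n : ℕ, EtModW.IsConstructible Λ (F.obj (op n))) :
    ∃ (ι : Type (u + 2)) (s : Finset ι) (G : ι → EtModW.Mod Λ X),
      (∀ i ∈ s, EtModW.IsConstructible Λ (G i)) ∧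
      ∀ P : EtModW.Mod Λ X → Prop, K336.Filt.Closed P → (∀ i ∈ s, P (G i)) →
        ∀ n, P (F.obj (op n)) := by
  classical
  have h0 : IsNoetherianObject (F.obj (op 0)) :=
    K336.NoethCons.isNoetherianObject_of_isConstructible (hc 0)
  have hI : I.FG := IsNoetherian.noetherian I
  obtain ⟨𝓛, hfin, h⟩ := K336.Filt.exists_finite_generators hI hF
  refine ⟨Subobject (F.obj (op 0)), insert ⊤ hfin.toFinset, fun L => (L : EtModW.Mod Λ X),
    fun L _ => ?_, fun P hP hs n => h P hP ?_ ?_ n⟩
  · exact Groth.Agent.Sga4h.LamSerre.isConstructible_of_mono L.arrow (hc 0)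
  · exact hP.iso (asIso (⊤ : Subobject (F.obj (op 0))).arrow) (hs ⊤ (Finset.mem_insert_self _ _))
  · intro L hL
    exact hs L (Finset.mem_insert_of_mem (hfin.mem_toFinset.2 hL))

/-- A finite partition of `X` adapted to all the members of an adic system. -/
theorem isCons_adic (hF : ARSys.IsAdic I F)
    (hc : ∀ n : ℕ, EtModW.IsConstructible Λ (F.obj (op n))) :
    IsCons (X := X) (fun T g => ∀ n : ℕ, FT (F.obj (op n)) T g) := by
  obtain ⟨ι, s, G, hG, h⟩ := exists_control hF hc
  refine IsCons.weaken (exists_common_isCons s G hG).2 fun T g hg n => ?_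
  exact h (fun G => FT G T g) (closed_FT g) hg n

omit [IsNoetherianRing Λ] [AlgebraicGeometry.IsNoetherian X] in
theorem stable_adic (F : ARSys.PS (EtModW.Mod Λ X)) :
    Stable (X := X) (fun T g => ∀ n : ℕ, FT (F.obj (op n)) T g) :=
  fun T T' h g hg n => stable_FT _ T T' h g (hg n)

/-- A dense open on which all the members of an adic system are locally constant. -/
theorem exists_dense_adic (hF : ARSys.IsAdic I F)
    (hc : ∀ n : ℕ, EtModW.IsConstructible Λ (F.obj (op n))) :
    ∃ U : X.Opens, Dense (U : Set X) ∧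
      ∀ n : ℕ, EtModW.IsFTLocConst Λ ((EtModW.pull Λ U.ι).obj (F.obj (op n))) := by
  obtain ⟨ι, s, G, hG, h⟩ := exists_control hF hc
  obtain ⟨U, hU, h1⟩ := exists_common_dense s G hG
  exact ⟨U, hU, fun n => h (fun G => FT G U U.ι) (closed_FT U.ι) h1 n⟩

end K336.AdicStrat
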