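import Groth.Agent.S2787
import Groth.Agent.UnramA.FiniteEtaleCount
import Groth.Agent.Etcore.SectionCompl
import Mathlib.AlgebraicGeometry.Morphisms.FlatRank
import Mathlib.Data.Set.Card

/-!
# Components of finite étale covers of irreducible geometrically unibranch schemes

`exists_component`: a finite étale cover of constant degree prime to `ℓ` has an irreducible open and closed
subscheme of constant degree prime to `ℓ`.
-/

set_option autoImplicit false
universe u

open CategoryTheory CategoryTheory.Limits AlgebraicGeometry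

namespace K336.Compo

open Groth.Agent Groth.Agent.Etcore.SectionCompl

theorem card_eq_finrank {X T : Scheme.{u}} (f : T ⟶ X) [IsFinite f] [Etale f] {Ω : Type u} [Field Ω]
    [IsSepClosed Ω] (η : Spec (CommRingCat.of Ω) ⟶ X) :
    Nat.card (GF f η) = f.finrank (η default) := by
  have h1 := Groth.Agent.UnramA.FiniteEtaleCount.card_sections (pullback.snd f η) default
  rw [Scheme.Hom.finrank_pullback_snd] at h1
  rw [← h1]
  refine Nat.card_congr
    { toFun := fun t => ⟨pullback.lift t.1 (𝟙 _) (by rw [Category.id_comp]; exact t.2),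
        pullback.lift_snd _ _ _⟩
      invFun := fun s => ⟨s.1 ≫ pullback.fst f η, by
        rw [Category.assoc, pullback.condition, reassoc_of% s.2]⟩
      left_inv := fun t => Subtype.ext (pullback.lift_fst _ _ _)
      right_inv := fun s => Subtype.ext (pullback.hom_ext (pullback.lift_fst _ _ _) (by
        rw [pullback.lift_snd]; exact s.2.symm)) }

theorem exists_geom (X : Scheme.{u}) (x : X) : ∃ (Ω : Type u) (_ : Field Ω) (_ : IsSepClosed Ω)
    (η : Spec (CommRingCat.of Ω) ⟶ X), η default = x := by
  refine ⟨AlgebraicClosure (X.residueField x), inferInstance, inferInstance,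
    Spec.map (CommRingCat.ofHom (algebraMap (X.residueField x) _)) ≫
      X.fromSpecResidueField x, ?_⟩
  rw [Scheme.Hom.comp_apply, Scheme.fromSpecResidueField_apply]

variable {S T : Scheme.{u}} (f : T ⟶ S)

theorem range_sub (W : T.Opens) {Ω : Type u} [Field Ω] (t : Spec (CommRingCat.of Ω) ⟶ T)
    (h : t default ∈ W) : Set.range t ⊆ Set.range W.ι := by
  rintro _ ⟨z, rfl⟩
  obtain rfl : z = default := Subsingleton.elim _ _
  rw [Scheme.Opens.range_ι]
  exact h

/-- Geometric points of an open subscheme. -/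
noncomputable def gfOpen (W : T.Opens) {Ω : Type u} [Field Ω] (η : Spec (CommRingCat.of Ω) ⟶ S) :
    GF (W.ι ≫ f) η ≃ {t : GF f η | t.1 default ∈ W} where
  toFun s := ⟨⟨s.1 ≫ W.ι, by rw [Category.assoc]; exact s.2⟩, (s.1 default).2⟩
  invFun t := ⟨IsOpenImmersion.lift W.ι t.1.1 (range_sub W t.1.1 t.2),
    by rw [← Category.assoc, IsOpenImmersion.lift_fac]; exact t.1.2⟩
  left_inv s := Subtype.ext (by
    rw [← cancel_mono W.ι]
    exact IsOpenImmersion.lift_fac _ _ _)
  right_inv t := Subtype.ext (Subtype.ext (IsOpenImmersion.lift_fac _ _ _))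

theorem isClosedImmersion_ι (W : T.Opens) (hW : IsClosed (W : Set T)) : IsClosedImmersion W.ι := by
  refine IsClosedImmersion.of_isPreimmersion _ ?_
  rw [Scheme.Opens.range_ι]
  exact hW

theorem isFinite_ι [IsFinite f] (W : T.Opens) (hW : IsClosed (W : Set T)) : IsFinite (W.ι ≫ f) := by
  have := isClosedImmersion_ι W hW
  infer_instance

theorem finrank_add [IsFinite f] [Etale f] (V W W' : T.Opens) (hV : IsClosed (V : Set T))
    (hW : IsClosed (W : Set T)) (hW' : IsClosed (W' : Set T)) (hdisj : Disjoint (V : Set T) W')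
    (hun : (W : Set T) = (V : Set T) ∪ (W' : Set T)) (s : S) (h0 : (W.ι ≫ f).finrank s ≠ 0) :
    (W.ι ≫ f).finrank s = (V.ι ≫ f).finrank s + (W'.ι ≫ f).finrank s := by
  obtain ⟨Ω, _, _, η, rfl⟩ := exists_geom S s
  have := isFinite_ι f V hV
  have := isFinite_ι f W hW
  have := isFinite_ι f W' hW'
  rw [← card_eq_finrank, ← card_eq_finrank, ← card_eq_finrank]
  rw [← card_eq_finrank] at h0
  have hfin : Finite (GF (W.ι ≫ f) η) := Nat.finite_of_card_ne_zero h0
  have hfin'' : Finite {t : GF f η | t.1 default ∈ W} := Finite.of_equiv _ (gfOpen f W η)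
  have hfin' : {t : GF f η | t.1 default ∈ W}.Finite := Set.toFinite _
  rw [Nat.card_congr (gfOpen f W η), Nat.card_congr (gfOpen f V η), Nat.card_congr (gfOpen f W' η),
    Nat.card_coe_set_eq, Nat.card_coe_set_eq, Nat.card_coe_set_eq]
  have hu : {t : GF f η | t.1 default ∈ W} = {t : GF f η | t.1 default ∈ V} ∪
      {t : GF f η | t.1 default ∈ W'} := by
    ext t
    change (t.1 default) ∈ (W : Set T) ↔ _
    rw [hun]
    rfl
  rw [hu] at hfin' ⊢
  refine Set.ncard_union_eq ?_ (hfin'.subset Set.subset_union_left)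
    (hfin'.subset Set.subset_union_right)
  rw [Set.disjoint_left]
  intro t h1 h2
  exact Set.disjoint_left.1 hdisj h1 h2

theorem exists_component [IrreducibleSpace S] (hS : ∀ s : S, CAlg2.IsGeomUnibranch (S.presheaf.stalk s))
    (ℓ : ℕ) (hℓ : ℓ.Prime) [IsFinite f] [Etale f] (d : ℕ) : ∀ (W : T.Opens), IsClosed (W : Set T) →
    (∀ s, (W.ι ≫ f).finrank s = d) → ℓ.Coprime d →
    ∃ V : T.Opens, IsClosed (V : Set T) ∧ IrreducibleSpace V ∧
      ∃ d', ℓ.Coprime d' ∧ ∀ s, (V.ι ≫ f).finrank s = d' := by
  induction d using Nat.strong_induction_on with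
  | _ d ih =>
    intro W hW hd hcop
    have hWf := isFinite_ι f W hW
    have hd0 : d ≠ 0 := by
      rintro rfl
      exact hℓ.one_lt.ne' ((Nat.coprime_zero_right ℓ).1 hcop)
    -- a point of `W`
    obtain ⟨s₀⟩ := (inferInstance : Nonempty S)
    obtain ⟨x, hx⟩ : ∃ x : T, x ∈ W := by
      obtain ⟨Ω, _, _, η, rfl⟩ := exists_geom S s₀
      have h1 := card_eq_finrank (W.ι ≫ f) η
      rw [hd] at h1
      have h2 : Nonempty (GF (W.ι ≫ f) η) := by
        by_contra h
        rw [not_nonempty_iff] at h
        rw [Nat.card_of_isEmpty] at h1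
        exact hd0 h1.symm
      obtain ⟨t⟩ := h2
      exact ⟨_, (t.1 default).2⟩
    have hZ := irreducibleComponent_mem_irreducibleComponents x
    have hZo := ((S2787.result f hS).2 _ hZ).1
    have hZc := isClosed_irreducibleComponent (x := x)
    let V : T.Opens := ⟨irreducibleComponent x, hZo⟩
    have hVc : IsClosed (V : Set T) := hZc
    have hVirr : IrreducibleSpace V := by
      have h1 : IsIrreducible (irreducibleComponent x) := isIrreducible_irreducibleComponent
      exact Subtype.irreducibleSpace h1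
    have hVW : (V : Set T) ⊆ W := by
      have h1 : _root_.IsPreconnected (irreducibleComponent x) :=
        isIrreducible_irreducibleComponent.2.isPreconnected
      exact h1.subset_isClopen ⟨hW, W.2⟩ ⟨x, mem_irreducibleComponent, hx⟩
    -- degree of `V`
    have hVf := isFinite_ι f V hVc
    obtain ⟨d₁, hd₁⟩ : ∃ d₁, ∀ s, (V.ι ≫ f).finrank s = d₁ :=
      ⟨_, fun s => (Scheme.Hom.isLocallyConstant_finrank (V.ι ≫ f)).apply_eq_of_preconnectedSpace s s₀⟩
    by_cases h1 : ℓ.Coprime d₁
    · exact ⟨V, hVc, hVirr, d₁, h1, hd₁⟩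
    · let W' : T.Opens := ⟨(W : Set T) ∩ (V : Set T)ᶜ, W.2.inter hVc.isOpen_compl⟩
      have hW'c : IsClosed (W' : Set T) := hW.inter hZo.isClosed_compl
      have hadd : ∀ s, d = d₁ + (W'.ι ≫ f).finrank s := by
        intro s
        rw [← hd s, ← hd₁ s]
        refine finrank_add f V W W' hVc hW hW'c ?_ ?_ s (by rw [hd]; exact hd0)
        · rw [Set.disjoint_left]
          intro y h1 h2
          exact h2.2 h1
        · ext y
          constructor
          · intro hy
            by_cases h : y ∈ (V : Set T)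
            · exact Or.inl h
            · exact Or.inr ⟨hy, h⟩
          · rintro (h | h)
            · exact hVW h
            · exact h.1
      have hd₁0 : 1 ≤ d₁ := by
        have h2 := Scheme.Hom.one_le_finrank_map (V.ι ≫ f) (⟨x, mem_irreducibleComponent⟩ : V)
        rwa [hd₁] at h2
      refine ih (d - d₁) (by omega) W' hW'c (fun s => by have := hadd s; omega) ?_
      rw [Nat.Prime.coprime_iff_not_dvd hℓ] at h1 hcop ⊢
      rw [not_not] at h1
      intro h2
      apply hcop
      have h3 : d = d₁ + (d - d₁) := by have := hadd s₀; omega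
      rw [h3]
      exact dvd_add h1 h2

end K336.Compo
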