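import Groth.Agent.Sga4h.ModConstFT

/-!
# Maps of constant sheaves of modules on constant sections
-/

set_option autoImplicit false
universe u

open CategoryTheory CategoryTheory.Limits AlgebraicGeometry Opposite

namespace K336.ConstMap

open Groth.Agent.Etrest.ModGerm Groth.Agent.Sga4h.ModConstFT

variable {Λ : Type (u + 1)} [CommRing Λ] {X : Scheme.{u}}
  {M N : Type (u + 1)} [AddCommGroup M] [Module Λ M] [AddCommGroup N] [Module Λ N]

/-- The map of constant sheaves induced by a linear map. -/
noncomputable abbrev cmap (h : M →ₗ[Λ] N) : EtModW.constMod Λ X M ⟶ EtModW.constMod Λ X N :=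
  (constantSheaf X.smallEtaleTopology (ModuleCat.{u + 1} Λ)).map (ModuleCat.ofHom h)

theorem ev_cmap (h : M →ₗ[Λ] N) (V : X.Etale) (m : M) :
    ev Λ (cmap (X := X) h) V (constSec Λ X M V m) = constSec Λ X N V (h m) := by
  have e := toSheafify_naturality X.smallEtaleTopology
    ((Functor.const X.Etaleᵒᵖ).map (ModuleCat.ofHom h))
  have e2 := congrArg (fun φ => (φ.app (op V)).hom m) e
  exact e2.symm

end K336.ConstMap
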