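import Groth.Agent.EtModW.K337.ProMod
import Groth.Agent.Cohder.RDAcyc
import Groth.Agent.S0718

/-!
# The essential image of `ε⁻¹` on sheaves of modules is a weak Serre subcategory
-/

set_option autoImplicit false
universe u v w

open CategoryTheory CategoryTheory.Limits AlgebraicGeometry Opposite

namespace K336.EpsSerre

open K337.ProMod K337.SiteAb K337.SiteAb2

section general

variable {A B : Type*} [Category* A] [Category* B] [Abelian A] [Abelian B] {L : A ⥤ B}
  [L.Full] [L.Faithful] [PreservesFiniteLimits L] [PreservesFiniteColimits L] [L.Additive]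

omit [L.Faithful] [PreservesFiniteColimits L] in
theorem essImage_kernel {F G : B} (φ : F ⟶ G) (hF : L.essImage F) (hG : L.essImage G) :
    L.essImage (kernel φ) := by
  obtain ⟨F', ⟨e⟩⟩ := hF
  obtain ⟨G', ⟨e'⟩⟩ := hG
  obtain ⟨ψ, hψ⟩ := L.map_surjective (e.hom ≫ φ ≫ e'.inv)
  exact ⟨kernel ψ, ⟨PreservesKernel.iso L ψ ≪≫ kernel.mapIso (L.map ψ) φ e e' (by
    rw [hψ, Category.assoc, Category.assoc, e'.inv_hom_id, Category.comp_id])⟩⟩

omit [L.Faithful] [PreservesFiniteLimits L] in
theorem essImage_cokernel {F G : B} (φ : F ⟶ G) (hF : L.essImage F) (hG : L.essImage G) :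
    L.essImage (cokernel φ) := by
  obtain ⟨F', ⟨e⟩⟩ := hF
  obtain ⟨G', ⟨e'⟩⟩ := hG
  obtain ⟨ψ, hψ⟩ := L.map_surjective (e.hom ≫ φ ≫ e'.inv)
  exact ⟨cokernel ψ, ⟨PreservesCokernel.iso L ψ ≪≫ cokernel.mapIso (L.map ψ) φ e e' (by
    rw [hψ, Category.assoc, Category.assoc, e'.inv_hom_id, Category.comp_id])⟩⟩

theorem essImage_ext {R : B ⥤ A} [R.Additive] (adj : L ⊣ R) (T : ShortComplex B) (hT : T.ShortExact)
    (h1 : L.essImage T.X₁) (h3 : L.essImage T.X₃) (hR : (T.map R).ShortExact) :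
    L.essImage T.X₂ := by
  rw [← adj.isIso_counit_app_iff_mem_essImage] at h1 h3 ⊢
  let φ : (T.map R).map L ⟶ T :=
    { τ₁ := adj.counit.app T.X₁
      τ₂ := adj.counit.app T.X₂
      τ₃ := adj.counit.app T.X₃
      comm₁₂ := (adj.counit.naturality T.f).symm
      comm₂₃ := (adj.counit.naturality T.g).symm }
  have i1 : IsIso φ.τ₁ := h1
  have i3 : IsIso φ.τ₃ := h3
  exact ShortComplex.isIso₂_of_shortExact_of_isIso₁₃ φ (hR.map_of_exact L) hT

end general

variable (Λ : Type (u + 1)) [CommRing Λ] (X : Scheme.{u}) [ProEtS.EpsCont X]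

instance : (epsPushM Λ X).Additive := Functor.additive_of_preserves_binary_products _

/-- `ε_*` preserves short exact sequences whose left term is in the essential image of `ε⁻¹`. -/
theorem shortExact_push (T : ShortComplex (EtModW.ModP Λ X)) (hT : T.ShortExact)
    (h1 : (EtModW.epsPullMod Λ X).essImage T.X₁) : (T.map (epsPushM Λ X)).ShortExact := by
  rw [shortExact_iff]
  have hT' := (shortExact_iff T).1 hT
  obtain ⟨F, ⟨e⟩⟩ := h1
  have e1 : (ProEtS.epsPull X).obj ((ab Λ X.smallEtaleTopology).obj F) ≅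
      (T.map (ab Λ (Scheme.ProEt.topology X))).X₁ :=
    ((pullIso Λ X.smallEtaleTopology (ProEtS.eps X) (Scheme.ProEt.topology X)).app F).symm ≪≫
      (ab Λ (Scheme.ProEt.topology X)).mapIso e
  have h2 : IsZero ((ProEtS.RepsPush X 1).obj (T.map (ab Λ (Scheme.ProEt.topology X))).X₁) :=
    (Groth.Agent.S0718.result X _ 1 Nat.one_pos).of_iso ((ProEtS.RepsPush X 1).mapIso e1).symm
  have hl : PreservesFiniteLimits (ProEtS.epsPush X) := by
    have : PreservesLimitsOfSize.{0, 0} (ProEtS.epsPush X) :=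
      (ProEtS.epsAdj X).rightAdjoint_preservesLimits
    infer_instance
  have h3 := Groth.Agent.Cohder.RDAcyc.map_shortExact (ProEtS.epsPush X) hT' h2
  exact h3

end K336.EpsSerre
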