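import Groth.Agent.Sga5.ARBasic
import Groth.Agent.Sga5.IsQuotBasic
import Groth.Agent.Sga5.AdicCrit
import Mathlib.CategoryTheory.Linear.LinearFunctor

/-!
# Right exact linear functors and `J`-adic systems

* `isQuot_map`: a right exact linear functor preserves quotients modulo a finitely generated ideal;
* `isAdic_comp`, `termKilled_comp`, `isARIso_whisker`, `isARAdic_comp`;
* `isQuot_of_map`: conversely for a jointly conservative family (see below).
-/

set_option autoImplicit false
open CategoryTheory CategoryTheory.Limits Opposite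
universe w v v' u u'
open ARSys

namespace K336.ExactFun

open Groth.Agent.Sga5 Groth.Agent.Sga5.IsQuotBasic

variable {C : Type u} [Category.{v} C] [Abelian C] {D : Type u'} [Category.{v'} D] [Abelian D]
  {A : Type w} [CommRing A] [Linear A C] [Linear A D]

/-- A functor preserves isomorphisms up to translation. -/
theorem isARIso_whisker {X Y : PS C} (u : X ⟶ Y) (hu : IsARIso u) (G : C ⥤ D) :
    IsARIso (Functor.whiskerRight u G : X ⋙ G ⟶ Y ⋙ G) := by
  rw [ARBasic.isARIso_iff_qinv] at hu ⊢
  obtain ⟨r, ⟨q⟩⟩ := hu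
  refine ⟨r, ⟨⟨fun n => G.map (q.v n), fun n m h => ?_, fun n => ?_, fun n => ?_⟩⟩⟩
  · change G.map _ ≫ G.map _ = G.map _ ≫ G.map _
    rw [← G.map_comp, ← G.map_comp, q.nat n m h]
  · change G.map _ ≫ G.map _ = G.map _
    rw [← G.map_comp, q.left n]
  · change G.map _ ≫ G.map _ = G.map _
    rw [← G.map_comp, q.right n]

theorem isARNull_comp {X : PS C} (hX : IsARNull X) (G : C ⥤ D) [G.PreservesZeroMorphisms] :
    IsARNull (X ⋙ G) := by
  obtain ⟨r, hr⟩ := hX
  refine ⟨r, fun n => ?_⟩
  change G.map (shiftMap X r n) = 0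
  rw [hr, G.map_zero]

theorem killedBy_map {I : Ideal A} {X : C} (hX : KilledBy I X) (G : C ⥤ D) [G.Additive]
    [G.Linear A] : KilledBy I (G.obj X) := by
  intro a ha
  rw [← G.map_id, ← G.map_smul, hX a ha, G.map_zero]

theorem termKilled_comp {J : Ideal A} {X : PS C} (hX : TermKilled J X) (G : C ⥤ D) [G.Additive]
    [G.Linear A] : TermKilled J (X ⋙ G) := fun n => killedBy_map (hX n) G

theorem isStrict_comp {X : PS C} (hX : IsStrict X) (G : C ⥤ D) [G.PreservesEpimorphisms] :
    IsStrict (X ⋙ G) := fun n m h => by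
  have := hX n m h
  change Epi (G.map (tr X h))
  infer_instance

/-- The multiplication map of a finite generating family. -/
theorem exists_exact_of_isQuot {ι : Type*} [Finite ι] (a : ι → A) {X Q : C} {p : X ⟶ Q}
    (h : IsQuot (Ideal.span (Set.range a)) p) :
    ∃ w : Sigma.desc (fun i => a i • 𝟙 X) ≫ p = 0, (ShortComplex.mk _ p w).Exact := by
  have w : Sigma.desc (fun i => a i • 𝟙 X) ≫ p = 0 := by
    refine Sigma.hom_ext _ _ fun i => ?_
    rw [← Category.assoc, Sigma.ι_desc, comp_zero, Linear.smul_comp, Category.id_comp]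
    exact isQuot_homKilledBy h _ (Ideal.subset_span ⟨i, rfl⟩)
  have := isQuot_epi h
  refine ⟨w, ?_⟩
  rw [ShortComplex.exact_iff_kernel_ι_comp_cokernel_π_zero]
  have hk : HomKilledBy (Ideal.span (Set.range a)) (cokernel.π (Sigma.desc (fun i => a i • 𝟙 X))) := by
    rw [homKilledBy_span_iff]
    rintro _ ⟨i, rfl⟩
    have : a i • cokernel.π (Sigma.desc (fun i => a i • 𝟙 X)) = Sigma.ι (fun _ : ι => X) i ≫
        Sigma.desc (fun i => a i • 𝟙 X) ≫ cokernel.π (Sigma.desc (fun i => a i • 𝟙 X)) := by
      rw [← Category.assoc, Sigma.ι_desc, Linear.smul_comp, Category.id_comp]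
    rw [this, cokernel.condition, comp_zero]
  change kernel.ι p ≫ cokernel.π _ = 0
  rw [← fac h _ hk, kernel.condition_assoc, zero_comp]

variable (G : C ⥤ D) [G.Additive] [G.Linear A] [PreservesFiniteColimits G]

theorem isQuot_map_aux {ι : Type} [Finite ι] (a : ι → A) {X Q : C} {p : X ⟶ Q}
    (h : IsQuot (Ideal.span (Set.range a)) p) : IsQuot (Ideal.span (Set.range a)) (G.map p) := by
  obtain ⟨w, hex⟩ := exists_exact_of_isQuot a h
  have := isQuot_epi h
  have hex' := hex.map_of_epi_of_preservesCokernel G this inferInstance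
  have h2 : Epi ((ShortComplex.mk _ p w).map G).g := by
    change Epi (G.map p)
    infer_instance
  refine isQuot_of_epi _ (killedBy_map h.1 G) fun Y φ hφ => ?_
  have hφ' : G.map (Sigma.desc (fun i => a i • 𝟙 X)) ≫ φ = 0 := by
    have hcop := isColimitOfHasCoproductOfPreservesColimit G (fun _ : ι => X)
    refine hcop.hom_ext ?_
    rintro ⟨i⟩
    change G.map (Sigma.ι (fun _ : ι => X) i) ≫ _ = G.map (Sigma.ι (fun _ : ι => X) i) ≫ _
    rw [← Category.assoc, ← G.map_comp, Sigma.ι_desc, comp_zero, G.map_smul, G.map_id,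
      Linear.smul_comp, Category.id_comp]
    exact hφ _ (Ideal.subset_span ⟨i, rfl⟩)
  exact ⟨hex'.desc φ hφ', hex'.g_desc φ hφ'⟩

/-- A right exact linear functor preserves quotients modulo a finitely generated ideal. -/
theorem isQuot_map {I : Ideal A} (hI : I.FG) {X Q : C} {p : X ⟶ Q} (h : IsQuot I p) :
    IsQuot I (G.map p) := by
  obtain ⟨n, a, rfl⟩ := Submodule.fg_iff_exists_fin_generating_family.1 hI
  exact isQuot_map_aux G a h

/-- A right exact linear functor preserves `J`-adic systems, `J` finitely generated. -/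
theorem isAdic_comp {J : Ideal A} (hJ : J.FG) {X : PS C} (hX : IsAdic J X) : IsAdic J (X ⋙ G) :=
  ⟨termKilled_comp hX.1 G, fun n m h => isQuot_map G (Ideal.FG.pow hJ) (hX.2 n m h)⟩

end K336.ExactFun
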