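import Groth.Agent.Sga5.GradedACC
import Mathlib.CategoryTheory.Abelian.CommSq

/-!
# The components of a `J`-adic system are built from finitely many quotients of `X_0`

`X` a `J`-adic system in an abelian category, `J` finitely generated, `X_0` Noetherian.  There are
finitely many subobjects `L_1, …, L_k` of `X_0` such that every class of objects containing `X_0` and
the `L_i`, stable under isomorphisms, extensions and quotients by a member of the class, contains all
the `X_n` (`exists_finite_generators`).
-/

set_option autoImplicit false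

open CategoryTheory CategoryTheory.Limits Opposite ARSys

universe w v u

namespace K336.Filt

open Groth.Agent.Sga5.SubElt Groth.Agent.Sga5.Shift Groth.Agent.Sga5.AdicElt
open Groth.Agent.Sga5.GradedACC

/-- A monotone map from a well quasi-order to a Noetherian partial order has finite range. -/
lemma finite_range_of_wqo {P Q : Type*} [Preorder P] [WellQuasiOrderedLE P] [PartialOrder Q]
    [WellFoundedGT Q] (L : P → Q) (h : Monotone L) : (Set.range L).Finite := by
  by_contra hinf
  have : Infinite (Set.range L) := Set.infinite_coe_iff.2 hinf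
  let f : ℕ ↪ Set.range L := Infinite.natEmbedding _
  choose p hp using fun k => (f k).2
  obtain ⟨g, hg⟩ := wellQuasiOrdered_le.exists_monotone_subseq p
  have hs : StrictMono (fun k => L (p (g k))) := by
    apply strictMono_nat_of_lt_succ
    intro k
    refine lt_of_le_of_ne (h (hg _ _ (Nat.le_succ k))) fun e => ?_
    rw [hp, hp] at e
    have h1 := g.injective (f.injective (Subtype.ext e))
    omega
  exact not_strictMono_of_wellFoundedGT _ hs

variable {C : Type u} [Category.{v} C] [Abelian C]

/-- A class of objects stable under isomorphisms, extensions and quotients by a member. -/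
structure Closed (P : C → Prop) : Prop where
  iso : ∀ {X Y : C}, (X ≅ Y) → P X → P Y
  zero : ∀ {X : C}, IsZero X → P X
  ext : ∀ (S : ShortComplex C), S.ShortExact → P S.X₁ → P S.X₃ → P S.X₂
  quot : ∀ (S : ShortComplex C), S.ShortExact → P S.X₁ → P S.X₂ → P S.X₃

lemma Closed.biprod {P : C → Prop} (hP : Closed P) {X Y : C} (hX : P X) (hY : P Y) :
    P (X ⊞ Y) :=
  hP.ext (ShortComplex.mk (biprod.inl : X ⟶ X ⊞ Y) (biprod.snd : X ⊞ Y ⟶ Y) (by simp))
    (ShortComplex.Splitting.shortExact
      { r := biprod.fst
        s := biprod.inr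
        f_r := by simp
        s_g := by simp
        id := by simp }) hX hY

/-- The sum of a subobject and of an image. -/
lemma Closed.sup {P : C → Prop} (hP : Closed P) {Y Z : C} (μ : Z ⟶ Y) (B : Subobject Y)
    (hB : P (B : C)) (hZ : P Z) (hL : P ((Subobject.pullback μ).obj B : C)) :
    P ((imageSubobject μ ⊔ B : Subobject Y) : C) := by
  have hpb := Subobject.isPullback μ B
  let d : (B : C) ⊞ Z ⟶ Y := biprod.desc B.arrow (-μ)
  let f : ((Subobject.pullback μ).obj B : C) ⟶ (B : C) ⊞ Z :=
    biprod.lift (Subobject.pullbackπ μ B) ((Subobject.pullback μ).obj B).arrow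
  have w0 : f ≫ d = 0 := hpb.shortComplex'.zero
  have hS : (ShortComplex.mk f d w0).Exact := hpb.exact_shortComplex'
  have hSm : Mono f := hpb.mono_shortComplex'_f
  have w : f ≫ factorThruImage d = 0 := by
    rw [← cancel_mono (image.ι d), Category.assoc, image.fac, zero_comp, w0]
  let S' : ShortComplex C := ShortComplex.mk f (factorThruImage d) w
  let φ : S' ⟶ ShortComplex.mk f d w0 :=
    { τ₁ := 𝟙 _
      τ₂ := 𝟙 _
      τ₃ := image.ι d
      comm₁₂ := by
        change 𝟙 _ ≫ f = f ≫ 𝟙 _
        rw [Category.id_comp, Category.comp_id]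
      comm₂₃ := by
        change 𝟙 _ ≫ d = factorThruImage d ≫ image.ι d
        rw [image.fac, Category.id_comp] }
  have h1 : Epi φ.τ₁ := inferInstanceAs (Epi (𝟙 _))
  have h2 : IsIso φ.τ₂ := inferInstanceAs (IsIso (𝟙 _))
  have h3 : Mono φ.τ₃ := inferInstanceAs (Mono (image.ι d))
  have hS' : S'.Exact := (ShortComplex.exact_iff_of_epi_of_isIso_of_mono φ).2 hS
  have hSE : S'.ShortExact :=
    { exact := hS'
      mono_f := hSm
      epi_g := inferInstanceAs (Epi (factorThruImage d)) }
  have h4 : P (image d) := hP.quot S' hSE hL (hP.biprod hB hZ)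
  have e : imageSubobject μ ⊔ B = imageSubobject d := by
    apply le_antisymm
    · refine sup_le ?_ ?_
      · rw [image_le_iff]
        have : μ = (-biprod.inr : Z ⟶ (B : C) ⊞ Z) ≫ d := by simp [d]
        rw [this]
        exact image_factors_comp _ _
      · have h5 : (imageSubobject d).Factors B.arrow := by
          have : B.arrow = (biprod.inl : (B : C) ⟶ (B : C) ⊞ Z) ≫ d := by simp [d]
          rw [this]
          exact image_factors_comp _ _
        rw [le_iff]
        intro T x hx
        rw [← Subobject.factorThru_arrow _ x hx]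
        exact factors_comp _ _ h5
    · rw [image_le_iff]
      have : d = biprod.fst ≫ B.arrow + biprod.snd ≫ (-μ) := by
        simp only [d, biprod.desc_eq]
      rw [this]
      apply factors_add
      · exact Subobject.factors_of_le _ le_sup_right (factors_comp _ _ (Subobject.factors_self B))
      · rw [Preadditive.comp_neg]
        apply factors_neg
        exact Subobject.factors_of_le _ le_sup_left (image_factors_comp _ _)
  rw [e]
  exact hP.iso (imageSubobjectIso d).symm h4

variable {A : Type w} [CommRing A] [Linear A C] {J : Ideal A} {X : PS C}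

/-- The leading relations of a `J`-adic system: the subobject of the `s` in `X_0` such that `a^α s`
is a combination of the `a^β`, `β < α` of the same degree. -/
noncomputable def rel {m : ℕ} (a : Fin m → A) (ha : ∀ i, a i ∈ J) (hX : IsAdic J X)
    (α : Fin m → ℕ) : Subobject (X.obj (op 0)) :=
  lead a ha hX (∑ i, α i) α rfl ⊥

lemma lead_bot_eq_rel {m : ℕ} (a : Fin m → A) (ha : ∀ i, a i ∈ J) (hX : IsAdic J X)
    (α : Fin m → ℕ) {n : ℕ} (hn : ∑ i, α i = n) : lead a ha hX n α hn ⊥ = rel a ha hX α := by
  subst hn
  rfl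

lemma isGrSub_bot (hX : IsAdic J X) : IsGrSub J X (fun _ => ⊥) := by
  refine ⟨fun q => bot_le, fun p q b hb => ?_⟩
  rw [image_le_iff, bot_factors_iff, comp_smul_id]
  refine adic_smul_eq_zero hX (Nat.le_add_left q p) (by omega) hb _ ?_
  have h1 := Subobject.factors_self ((Subobject.pullback (tr X (Nat.le_add_left q p))).obj ⊥)
  rw [pb_factors_iff, bot_factors_iff] at h1
  exact h1

lemma rel_mono {m : ℕ} (a : Fin m → A) (ha : ∀ i, a i ∈ J) (hX : IsAdic J X) :
    Monotone (rel a ha hX) := by
  intro α β hαβ
  obtain ⟨γ, rfl⟩ : ∃ γ, β = α + γ := ⟨β - α, by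
    ext i; simp only [Pi.add_apply, Pi.sub_apply]; have h9 : α i ≤ β i := hαβ i; omega⟩
  have e : ∑ i, (α + γ) i = (∑ i, γ i) + ∑ i, α i := by
    simp only [Pi.add_apply, Finset.sum_add_distrib]; omega
  have h1 := lead_le a ha hX (isGrSub_bot hX) _ _ α γ rfl rfl e
  rwa [lead_bot_eq_rel a ha hX (α + γ) e] at h1

lemma finite_range_rel [IsNoetherianObject (X.obj (op 0))] {m : ℕ} (a : Fin m → A)
    (ha : ∀ i, a i ∈ J) (hX : IsAdic J X) : (Set.range (rel a ha hX)).Finite :=
  finite_range_of_wqo _ (rel_mono a ha hX)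

lemma mulImg_eq {m : ℕ} (a : Fin m → A) (ha : ∀ i, a i ∈ J) (hX : IsAdic J X) (n : ℕ)
    (α : Fin m → ℕ) (hα : ∑ i, α i = n) :
    mulImg (mon a α) (X.obj (op n)) = imageSubobject (mu a ha hX n α hα) := by
  have := adic_epi hX (Nat.zero_le n)
  apply le_antisymm
  · rw [mulImg, image_le_iff, ← tr_mu a ha hX n α hα]
    exact image_factors_comp _ _
  · rw [image_le_iff, ← factors_epi_comp _ (tr X (Nat.zero_le n)), tr_mu]
    exact (image_le_iff _ _).1 le_rfl

lemma Closed.prop_FS {P : C → Prop} (hP : Closed P) {m : ℕ} (a : Fin m → A) (ha : ∀ i, a i ∈ J)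
    (hX : IsAdic J X) (h0 : P (X.obj (op 0))) (hrel : ∀ α, P (rel a ha hX α : C)) (n : ℕ) :
    ∀ (k : ℕ) (S : Finset (Fin m → ℕ)), S.card = k → S ⊆ expo m n →
      (∀ α ∈ S, ∀ β ∈ expo m n, toLex β < toLex α → β ∈ S) →
      P ((FS a S (X.obj (op n)) : Subobject _) : C) := by
  intro k
  induction k with
  | zero =>
    intro S hS _ _
    rw [Finset.card_eq_zero] at hS
    subst hS
    rw [FS, Finset.sup_empty]
    exact hP.zero ((isZero_zero C).of_iso Subobject.botCoeIsoZero)
  | succ k ih =>
    intro S hcard hS hlow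
    have hne : S.Nonempty := by
      rw [← Finset.card_pos]; omega
    obtain ⟨α, hαS, hαmax⟩ := Finset.exists_max_image S toLex hne
    have hα : ∑ i, α i = n := mem_expo.1 (hS hαS)
    have hlo : lo n α = S.erase α := by
      ext β
      rw [mem_lo, Finset.mem_erase]
      constructor
      · rintro ⟨h1, h2⟩
        exact ⟨fun h => h2.ne (by rw [h]), hlow α hαS β h1 h2⟩
      · rintro ⟨h1, h2⟩
        exact ⟨hS h2, lt_of_le_of_ne (hαmax β h2) (fun h => h1 (toLex.injective h))⟩
    have ihS : P ((FS a (S.erase α) (X.obj (op n)) : Subobject _) : C) := by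
      apply ih
      · rw [Finset.card_erase_of_mem hαS, hcard]; rfl
      · exact (Finset.erase_subset _ _).trans hS
      · intro β hβ δ hδ hlt
        rw [Finset.mem_erase] at hβ ⊢
        refine ⟨fun h => ?_, hlow β hβ.2 δ hδ hlt⟩
        subst h
        exact absurd (hαmax β hβ.2) (not_le.2 hlt)
    have h2 : FS a S (X.obj (op n)) =
        imageSubobject (mu a ha hX n α hα) ⊔ FS a (S.erase α) (X.obj (op n)) := by
      rw [← mulImg_eq, ← FS_insert, Finset.insert_erase hαS]
    rw [h2]
    refine hP.sup _ _ ihS h0 ?_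
    have h3 := hrel α
    rw [← lead_bot_eq_rel a ha hX α hα, lead, bot_sup_eq, hlo] at h3
    exact h3

/-- A closed class containing `X_0` and the leading relations contains all the `X_n`. -/
theorem Closed.prop_of_rel {P : C → Prop} (hP : Closed P) {m : ℕ} (a : Fin m → A)
    (hspan : Ideal.span (Set.range a) = J) (ha : ∀ i, a i ∈ J)
    (hX : IsAdic J X) (h0 : P (X.obj (op 0))) (hrel : ∀ α, P (rel a ha hX α : C)) (n : ℕ) :
    P (X.obj (op n)) := by
  induction n with
  | zero => exact h0
  | succ n ih =>
    have hepi := adic_epi hX (Nat.le_succ n)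
    have h1 : kernelSubobject (tr X (Nat.le_succ n)) = FS a (expo m (n + 1)) (X.obj (op (n + 1))) := by
      apply le_antisymm
      · refine isQuot_kernel_le (hX.2 n (n + 1) (Nat.le_succ n)) _ fun b hb => ?_
        exact FS_factors_pow a hspan (n + 1) hb (𝟙 _)
      · rw [FS, Finset.sup_le_iff]
        intro α hα
        rw [mulImg, image_le_iff, kernel_factors_iff, smul_comp', Category.id_comp]
        exact killedBy_smul (hX.1 n) (mon_mem a ha α (mem_expo.1 hα)) _
    have h2 : P ((kernelSubobject (tr X (Nat.le_succ n)) : Subobject _) : C) := by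
      rw [h1]
      exact hP.prop_FS a ha hX h0 hrel (n + 1) _ _ rfl subset_rfl (fun _ _ β hβ _ => hβ)
    have h3 : P (kernel (tr X (Nat.le_succ n))) := hP.iso (kernelSubobjectIso _) h2
    exact hP.ext (ShortComplex.mk (kernel.ι (tr X (Nat.le_succ n))) (tr X (Nat.le_succ n))
      (kernel.condition _))
      { exact := ShortComplex.exact_of_f_is_kernel _ (kernelIsKernel _)
        mono_f := inferInstance
        epi_g := hepi } h3 ih

/-- There are finitely many subobjects of `X_0` such that a closed class containing `X_0` and these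
contains all the `X_n`. -/
theorem exists_finite_generators (hJ : J.FG) (hX : IsAdic J X)
    [IsNoetherianObject (X.obj (op 0))] :
    ∃ 𝓛 : Set (Subobject (X.obj (op 0))), 𝓛.Finite ∧
      ∀ P : C → Prop, Closed P → P (X.obj (op 0)) → (∀ L ∈ 𝓛, P (L : C)) →
        ∀ n, P (X.obj (op n)) := by
  obtain ⟨m, a, hspan⟩ := Submodule.fg_iff_exists_fin_generating_family.1 hJ
  have hspan' : Ideal.span (Set.range a) = J := hspan
  have ha : ∀ i, a i ∈ J := fun i => by
    rw [← hspan']; exact Ideal.subset_span ⟨i, rfl⟩
  exact ⟨Set.range (rel a ha hX), finite_range_rel a ha hX, fun P hP h0 hL n =>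
    hP.prop_of_rel a hspan' ha hX h0 (fun α => hL _ ⟨α, rfl⟩) n⟩

end K336.Filt
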