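import Groth.Agent.Etcore.FiltAb

/-!
# Filtrations with graded pieces in a class of objects of an abelian category

`FiltP P n F` : there is a chain `0 = G 0 ⟶ G 1 ⟶ ... ⟶ G n ≅ F` of monomorphisms whose
cokernels satisfy `P`.
-/

set_option autoImplicit false
universe v u

open CategoryTheory CategoryTheory.Limits

namespace K336.FiltAbP

open Groth.Agent.Etcore.FiltAb

variable {A : Type u} [Category.{v} A] [Abelian A]

/-- `F` has a filtration of length `n` with all graded pieces satisfying `P`. -/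
def FiltP (P : A → Prop) (n : ℕ) (F : A) : Prop :=
  ∃ (G : ℕ → A) (φ : ∀ i, G i ⟶ G (i + 1)) (m : ∀ i, G i ⟶ F),
    IsZero (G 0) ∧ IsIso (m n) ∧ (∀ i, φ i ≫ m (i + 1) = m i) ∧
      ∀ i, i < n → Mono (φ i) ∧ P (cokernel (φ i))

variable {P : A → Prop}

theorem FiltP.zero {F : A} (hF : IsZero F) : FiltP P 0 F :=
  ⟨fun _ => F, fun _ => 𝟙 F, fun _ => 𝟙 F, hF, inferInstance, fun _ => by simp,
    fun i hi => absurd hi (Nat.not_lt_zero i)⟩

theorem FiltP.of_iso {F F' : A} {n : ℕ} (h : FiltP P n F) (e : F ≅ F') : FiltP P n F' := by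
  obtain ⟨G, φ, m, h0, hn, hφ, hc⟩ := h
  refine ⟨G, φ, fun i => m i ≫ e.hom, h0, inferInstance, fun i => ?_, hc⟩
  rw [← Category.assoc, hφ]

variable {C F Q : A}

section

variable {n : ℕ} (i' : C ⟶ F) (π : F ⟶ Q) (w : i' ≫ π = 0)

/-- If `0 → C → F → Q → 0` is exact, `C` satisfies `P` and `Q` has a filtration of length `n`, then `F` has a
filtration of length `n + 1`. -/
theorem FiltP.succ (hP : ∀ {X Y : A}, (X ≅ Y) → P Y → P X) (hC : P C)
    (hS : (ShortComplex.mk i' π w).ShortExact) (hQ : FiltP P n Q) :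
    FiltP P (n + 1) F := by
  obtain ⟨G, φ, m, h0, hn, hφ, hc⟩ := hQ
  have hmono : Mono i' := hS.mono_f
  have hepi : Epi π := hS.epi_g
  let z : A := G 0
  let G' : ℕ → A := fun i => Nat.casesOn i z (fun j => pullback (m j) π)
  let φ' : ∀ i, G' i ⟶ G' (i + 1) := fun i => Nat.casesOn (motive := fun i => G' i ⟶ G' (i + 1)) i
    (0 : z ⟶ pullback (m 0) π)
    (fun j => pbMap π (φ j) (m j) (m (j + 1)) (hφ j))
  let m' : ∀ i, G' i ⟶ F := fun i => Nat.casesOn (motive := fun i => G' i ⟶ F) i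
    (0 : z ⟶ F) (fun j => (pullback.snd (m j) π : pullback (m j) π ⟶ F))
  refine ⟨G', φ', m', h0, ?_, ?_, ?_⟩
  · change IsIso (pullback.snd (m n) π)
    infer_instance
  · intro i
    cases i with
    | zero => exact h0.eq_of_src _ _
    | succ j => exact pbMap_snd π (φ j) (m j) (m (j + 1)) (hφ j)
  · intro i hi
    cases i with
    | zero =>
      refine ⟨⟨fun a b _ => h0.eq_of_tgt _ _⟩, ?_⟩
      change P (cokernel (0 : z ⟶ pullback (m 0) π))
      -- `pullback (m 0) π` is a kernel of `π`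
      have w' : pullback.snd (m 0) π ≫ π = 0 := by
        rw [← pullback.condition, h0.eq_of_src (m 0) 0, comp_zero]
      have hker : IsLimit (KernelFork.ofι (pullback.snd (m 0) π) w') := by
        refine KernelFork.IsLimit.ofι _ _ (fun {T} t ht => pullback.lift 0 t
          (by rw [zero_comp, ht])) (fun {T} t ht => pullback.lift_snd _ _ _)
          (fun {T} t ht a ha => ?_)
        apply pullback.hom_ext
        · exact h0.eq_of_tgt _ _
        · rw [ha]; exact (pullback.lift_snd _ _ _).symm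
      have hker' : IsLimit (KernelFork.ofι i' w) := hS.fIsKernel
      exact hP (cokernelZeroIsoTarget ≪≫ hker.conePointUniqueUpToIso hker') hC
    | succ j =>
      obtain ⟨hm, hPj⟩ := hc j (Nat.lt_of_succ_lt_succ hi)
      have hfst : Epi (pullback.fst (m (j + 1)) π) := inferInstance
      obtain ⟨h1, ⟨e2⟩⟩ := cokernel_pullback (pbMap_sq π (φ j) (m j) (m (j + 1)) (hφ j))
      exact ⟨h1, hP e2 hPj⟩

end

end K336.FiltAbP
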