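import Groth.Agent.EtModW.K336.Lin
import Groth.Agent.EtModW.K336.ExactFun
import Groth.Agent.EtModW.K336.LimAdic
import Groth.Agent.EtModW.K337.QuotWC
import Groth.Agent.EtModW.K337.ProMod

/-!
# Limits of adic systems on the small pro-étale site

* `isQuot_π`: for an `I`-adic system `G` of sheaves of `Λ`-modules on the small pro-étale site,
  `I` finitely generated, `lim G ⟶ G_n` is a quotient map modulo `I ^ (n + 1)`;
* `linear_epsPullMod`, `isAdic_eps`: `ε⁻¹` is linear, and preserves `I`-adic systems.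
-/

set_option autoImplicit false
universe u

open CategoryTheory CategoryTheory.Limits AlgebraicGeometry Opposite

namespace K336.LimEps

open K337.ProMod

variable {Λ : Type (u + 1)} [CommRing Λ] {X : Scheme.{u}}

instance additive_epsPushM [ProEtS.EpsCont X] : (epsPushM Λ X).Additive where

instance linear_epsPushM [ProEtS.EpsCont X] : (epsPushM Λ X).Linear Λ where
  map_smul _ _ := rfl

instance linear_epsPullMod [ProEtS.EpsCont X] : (EtModW.epsPullMod Λ X).Linear Λ :=
  K336.Lin.leftAdjoint_linear (epsAdjM Λ X)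

/-- `ε⁻¹` of an `I`-adic system is `I`-adic. -/
theorem isAdic_eps [ProEtS.EpsCont X] {I : Ideal Λ} (hI : I.FG)
    {G : ARSys.PS (EtModW.Mod Λ X)} (hG : ARSys.IsAdic I G) :
    ARSys.IsAdic I (G ⋙ EtModW.epsPullMod Λ X) :=
  K336.ExactFun.isAdic_comp (EtModW.epsPullMod Λ X) hI hG

/-- The projections of the limit of an `I`-adic system, `I` finitely generated. -/
theorem sections_π {I : Ideal Λ} (hI : I.FG) {D : ARSys.PS (EtModW.ModP Λ X)}
    (hD : ARSys.IsAdic I D) {c : Cone D} (hc : IsLimit c) (n : ℕ) {U : X.ProEt}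
    (hU : ProEtS.IsWC U) :
    Function.Surjective ((c.π.app (op n)).hom.app (op U)).hom ∧
      LinearMap.ker ((c.π.app (op n)).hom.app (op U)).hom =
        I ^ (n + 1) • (⊤ : Submodule Λ (c.pt.obj.obj (op U))) := by
  let π : ∀ n : ℕ, c.pt.obj.obj (op U) →ₗ[Λ] (D.obj (op n)).obj.obj (op U) :=
    fun n => ((c.π.app (op n)).hom.app (op U)).hom
  let t : ∀ {n m : ℕ}, n ≤ m → (D.obj (op m)).obj.obj (op U) →ₗ[Λ] (D.obj (op n)).obj.obj (op U) :=
    fun h => ((ARSys.tr D h).hom.app (op U)).hom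
  have hsec : ∀ {n m : ℕ} (h : n ≤ m), Function.Surjective (t h) ∧
      LinearMap.ker (t h) = I ^ (n + 1) • ⊤ := fun {n m} h =>
    K337.QuotWC.sections_of_isQuot (Ideal.FG.pow hI) (hD.2 n m h) hU
  have hex : ∀ x : ∀ n, (D.obj (op n)).obj.obj (op U),
      (∀ (n m : ℕ) (h : n ≤ m), t h (x m) = x n) → ∃ z, ∀ n, π n z = x n := fun x hx => by
    obtain ⟨z, hz, -⟩ := K337.WCMod.existsUnique_lim hc U x hx
    exact ⟨z, hz⟩
  have hid : ∀ (n : ℕ) (x : (D.obj (op n)).obj.obj (op U)), t le_rfl x = x := fun n x => by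
    change (ARSys.tr D (le_refl n)).hom.app (op U) x = x
    have : ARSys.tr D (le_refl n) = 𝟙 _ := D.map_id _
    rw [this]
    rfl
  have hcomp : ∀ {n m k : ℕ} (h : n ≤ m) (h' : m ≤ k) (x : (D.obj (op k)).obj.obj (op U)),
      t h (t h' x) = t (h.trans h') x := fun {n m k} h h' x => by
    have : ARSys.tr D (h.trans h') = ARSys.tr D h' ≫ ARSys.tr D h := by
      rw [ARSys.tr, ARSys.tr, ARSys.tr, ← D.map_comp]
      rfl
    change (ARSys.tr D h).hom.app (op U) ((ARSys.tr D h').hom.app (op U) x) =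
      (ARSys.tr D (h.trans h')).hom.app (op U) x
    rw [this]
    rfl
  have hs : ∀ n, Function.Surjective (π n) :=
    K336.LimAdic.surjective_π π t hid hcomp (fun h => (hsec h).1) hex
  refine ⟨hs n, K336.LimAdic.ker_π π t hI (fun {n m} h z => ?_) (fun n a ha x => ?_)
    (fun h => (hsec h).2.le) hex (fun z hz => ?_) hs n⟩
  · exact congrArg (fun t => (t.hom.app (op U)).hom z) (c.w (homOfLE h).op)
  · have := congrArg (fun t => (t.hom.app (op U)).hom x) (hD.1 n a ha)
    exact this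
  · refine K337.WCMod.lim_ext hc U fun n => ?_
    rw [map_zero]
    exact hz n

theorem isQuot_π {I : Ideal Λ} (hI : I.FG) {D : ARSys.PS (EtModW.ModP Λ X)}
    (hD : ARSys.IsAdic I D) {c : Cone D} (hc : IsLimit c) (n : ℕ) :
    ARSys.IsQuot (I ^ (n + 1)) (c.π.app (op n)) :=
  K337.QuotWC.isQuot_of_sections _ fun _ hU => sections_π hI hD hc n hU

end K336.LimEps
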