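import Groth.Prelude.Def_EtModW
import Mathlib.CategoryTheory.Linear.LinearFunctor
import Mathlib.CategoryTheory.Adjunction.Additive

/-!
# Linear functors: left adjoints, direct images, `ε⁻¹`
-/

set_option autoImplicit false
universe u

open CategoryTheory CategoryTheory.Limits AlgebraicGeometry Opposite

namespace K336.Lin

/-- A left adjoint of a linear functor is linear. -/
theorem leftAdjoint_linear {R : Type*} [CommRing R] {C D : Type*} [Category* C] [Category* D]
    [Preadditive C] [Preadditive D] [Linear R C] [Linear R D] {L : C ⥤ D} {G : D ⥤ C}
    (adj : L ⊣ G) [L.Additive] [G.Additive] [G.Linear R] : L.Linear R where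
  map_smul {A B} φ r := by
    apply (adj.homEquiv _ _).injective
    rw [adj.homEquiv_unit, adj.homEquiv_unit, G.map_smul, Linear.comp_smul]
    have h1 := adj.unit.naturality (r • φ)
    have h2 := adj.unit.naturality φ
    dsimp only [Functor.id_map, Functor.comp_map, Functor.id_obj, Functor.comp_obj] at h1 h2
    rw [← h1, ← h2, Linear.smul_comp]

end K336.Lin
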