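import Groth.Agent.Etrest.ModFT

/-!
# Isomorphisms with constant sheaves on the over-site, and maps between them
-/

set_option autoImplicit false
universe u

open CategoryTheory CategoryTheory.Limits AlgebraicGeometry Opposite

namespace K336.OverConst

open Groth.Agent.Etrest.ModGerm Groth.Agent.Etrest.ModLoc

section adj

universe v₁ v₂ u₁ u₂

variable {C : Type u₁} [Category.{v₁} C] {D : Type u₂} [Category.{v₂} D] {L : C ⥤ D} {R : D ⥤ C}
  (adj : L ⊣ R)

/-- The adjoint transpose. -/
abbrev tr {P : C} {F : D} (c : P ⟶ R.obj F) : L.obj P ⟶ F := L.map c ≫ adj.counit.app F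

theorem tr_nat {P Q : C} {F G : D} (c : P ⟶ R.obj F) (d : Q ⟶ R.obj G) (k : P ⟶ Q) (f : F ⟶ G)
    (h : c ≫ R.map f = k ≫ d) : tr adj c ≫ f = L.map k ≫ tr adj d := by
  have h2 := adj.counit.naturality f
  simp only [Functor.comp_map, Functor.id_map] at h2
  rw [Category.assoc, ← h2, ← Category.assoc, ← Category.assoc, ← Functor.map_comp,
    ← Functor.map_comp, h]

end adj

variable {Λ : Type (u + 1)} [CommRing Λ] {X : Scheme.{u}}

section

variable (F : EtModW.Mod Λ X) (U : X.Etale) {M : Type (u + 1)} [AddCommGroup M] [Module Λ M]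
  (φ : M →ₗ[Λ] EtModW.sect Λ F U)

theorem isIso_tr_constToOver (h : IsConstVia Λ F U φ) :
    IsIso (tr (sheafificationAdjunction (X.smallEtaleTopology.over U) (ModuleCat.{u + 1} Λ))
      (F := F.over U) (constToOver Λ F U φ)) := by
  rw [← isLocallyBijective_constToOver, GrothendieckTopology.W_iff] at h
  infer_instance

/-- The map from the constant sheaf on the over-site given by a linear map to sections. -/
noncomputable def fromConst :
    (constantSheaf (X.smallEtaleTopology.over U) (ModuleCat.{u + 1} Λ)).obj (ModuleCat.of Λ M) ⟶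
      EtModW.restr Λ F U :=
  tr (sheafificationAdjunction (X.smallEtaleTopology.over U) (ModuleCat.{u + 1} Λ))
      (F := F.over U) (constToOver Λ F U φ)

theorem isIso_fromConst (h : IsConstVia Λ F U φ) : IsIso (fromConst F U φ) :=
  isIso_tr_constToOver F U φ h

/-- The isomorphism with the constant sheaf. -/
noncomputable def isoConst (h : IsConstVia Λ F U φ) : EtModW.restr Λ F U ≅
    (constantSheaf (X.smallEtaleTopology.over U) (ModuleCat.{u + 1} Λ)).obj (ModuleCat.of Λ M) :=
  haveI := isIso_fromConst F U φ h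
  (asIso (fromConst F U φ)).symm

end

theorem fromConst_naturality {F G : EtModW.Mod Λ X} (f : F ⟶ G) (U : X.Etale)
    {M N : Type (u + 1)} [AddCommGroup M] [Module Λ M] [AddCommGroup N] [Module Λ N]
    (φ : M →ₗ[Λ] EtModW.sect Λ F U) (ψ : N →ₗ[Λ] EtModW.sect Λ G U) (h : M →ₗ[Λ] N)
    (e : ∀ m, ev Λ f U (φ m) = ψ (h m)) :
    fromConst F U φ ≫ (X.smallEtaleTopology.overPullback (ModuleCat.{u + 1} Λ) U).map f =
      (constantSheaf (X.smallEtaleTopology.over U) (ModuleCat.{u + 1} Λ)).map (ModuleCat.ofHom h) ≫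
        fromConst G U ψ := by
  refine tr_nat (sheafificationAdjunction (X.smallEtaleTopology.over U) (ModuleCat.{u + 1} Λ))
    (F := F.over U) (G := G.over U) (constToOver Λ F U φ) (constToOver Λ G U ψ)
    ((Functor.const (Over U)ᵒᵖ).map (ModuleCat.ofHom h))
    ((X.smallEtaleTopology.overPullback (ModuleCat.{u + 1} Λ) U).map f) ?_
  ext V m
  change ev Λ f _ (res Λ F V.unop.hom (φ m)) = res Λ G V.unop.hom (ψ (h m))
  rw [ev_res, e]

theorem isoConst_naturality {F G : EtModW.Mod Λ X} (f : F ⟶ G) (U : X.Etale)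
    {M N : Type (u + 1)} [AddCommGroup M] [Module Λ M] [AddCommGroup N] [Module Λ N]
    (φ : M →ₗ[Λ] EtModW.sect Λ F U) (ψ : N →ₗ[Λ] EtModW.sect Λ G U) (hφ : IsConstVia Λ F U φ)
    (hψ : IsConstVia Λ G U ψ) (h : M →ₗ[Λ] N)
    (e : ∀ m, ev Λ f U (φ m) = ψ (h m)) :
    (X.smallEtaleTopology.overPullback (ModuleCat.{u + 1} Λ) U).map f ≫ (isoConst G U ψ hψ).hom =
      (isoConst F U φ hφ).hom ≫
      (constantSheaf (X.smallEtaleTopology.over U) (ModuleCat.{u + 1} Λ)).map (ModuleCat.ofHom h) := by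
  rw [← Iso.inv_comp_eq, ← Category.assoc, ← Iso.eq_comp_inv]
  exact fromConst_naturality f U φ ψ h e

end K336.OverConst
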