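import Groth.Agent.EtModW.K336.ExactFun
import Groth.Agent.EtModW.K336.ARSub
import Groth.Agent.Sga5.AdicCrit

/-!
# Reflecting `J`-adic systems (up to translation) through exact linear functors

`G k : C ⥤ D k` exact, linear, jointly reflecting zero objects.

* `isARIso_of_comp_right`: cancellation for isomorphisms up to translation;
* `uml_reflect`, `subLE_reflect`: the uniform Mittag-Leffler condition and the criterion of S3158 are
  reflected;
* `isARAdic_of_universal_images`: if `X` is `J`-adic up to translation so is its system of universal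
  images, and conversely;
* `isARAdic_reflect`: a system killed termwise by `J ^ (n + 1)` whose images by finitely many `G k` are
  `J`-adic up to translation is `J`-adic up to translation.
-/

set_option autoImplicit false
universe w v u v' u' t

open CategoryTheory CategoryTheory.Limits Opposite ARSys

namespace K336.Reflect

open Groth.Agent.Sga5 Groth.Agent.Sga5.ARBasic Groth.Agent.Sga5.MLAR

section single

variable {C : Type u} [Category.{v} C] [Abelian C]

/-- Cancellation for isomorphisms up to translation. -/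
theorem isARIso_of_comp_right {X Y Z : PS C} {f : X ⟶ Y} {g : Y ⟶ Z} (hfg : IsARIso (f ≫ g))
    (hg : IsARIso g) : IsARIso f := by
  obtain ⟨⟨a, ha⟩, ⟨b, hb⟩⟩ := (isARIso_iff _).1 hfg
  obtain ⟨r, ⟨q⟩⟩ := (isARIso_iff_qinv g).1 hg
  rw [isARIso_iff]
  refine ⟨⟨a, fun n m hm h T x hx => ha n m hm h x ?_⟩, ⟨r + b, fun n m hm h T φ hφ => ?_⟩⟩
  · rw [NatTrans.comp_app, ← Category.assoc, hx, zero_comp]
  · have h1 : (f ≫ g).app (op (n + r)) ≫ (q.v n ≫ φ) = 0 := by
      rw [NatTrans.comp_app, Category.assoc, ← Category.assoc (g.app _), q.right n,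
        ← Category.assoc, ← tr_nat, Category.assoc, hφ, comp_zero]
    have h2 := hb (n + r) m (by omega) (by omega) (q.v n ≫ φ) h1
    rw [← tr_comp Y (Nat.le_add_right n r) (show n + r ≤ m by omega), ← q.right n]
    rw [Category.assoc, Category.assoc, tr_nat_assoc, h2, comp_zero]

/-- Cancellation for isomorphisms up to translation. -/
theorem isARIso_of_comp_left {X Y Z : PS C} {f : X ⟶ Y} {g : Y ⟶ Z} (hfg : IsARIso (f ≫ g))
    (hf : IsARIso f) : IsARIso g := by
  obtain ⟨⟨a, ha⟩, ⟨b, hb⟩⟩ := (isARIso_iff _).1 hfg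
  obtain ⟨r, ⟨q⟩⟩ := (isARIso_iff_qinv f).1 hf
  rw [isARIso_iff]
  refine ⟨⟨r + a, fun n m hm h T x hx => ?_⟩, ⟨b, fun n m hm h T φ hφ => hb n m hm h φ ?_⟩⟩
  · obtain ⟨m', rfl⟩ : ∃ m', m = m' + r := ⟨m - r, by omega⟩
    have h1 : (x ≫ q.v m') ≫ (f ≫ g).app (op m') = 0 := by
      rw [NatTrans.comp_app, Category.assoc, ← Category.assoc (q.v m'), q.left m', tr_nat,
        ← Category.assoc, hx, zero_comp]
    have h2 := ha n m' (by omega) (by omega) (x ≫ q.v m') h1
    rw [← tr_comp Y (show n ≤ m' by omega) (Nat.le_add_right m' r), ← q.left m', Category.assoc,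
      ← tr_nat, ← Category.assoc, ← Category.assoc, h2, zero_comp]
  · rw [NatTrans.comp_app, Category.assoc, hφ, comp_zero]

variable {A : Type w} [CommRing A] [Linear A C]

theorem termKilled_of_mono {J : Ideal A} {X Y : PS C} (f : X ⟶ Y) [Mono f] (hY : TermKilled J Y) :
    TermKilled J X := fun n =>
  have := mono_app f n
  killedBy_of_mono (f.app (op n)) (hY n)

/-- The system of universal images of a system `J`-adic up to translation is so. -/
theorem isARAdic_universal {J : Ideal A} {X I : PS C} (hX : IsARAdic J X) (i : I ⟶ X) [Mono i]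
    (hi : IsARIso i) {r : ℕ} (p : ∀ n : ℕ, X.obj (op (n + r)) ⟶ I.obj (op n))
    (hp : ∀ n, p n ≫ i.app (op n) = tr X (Nat.le_add_right n r)) : IsARAdic J I := by
  obtain ⟨hk, Y, v, hY, hv⟩ := hX
  obtain ⟨l, rfl⟩ := K336.ARSub.exists_lift_of_strict (isStrict_of_isAdic hY) v i p hp
  exact ⟨termKilled_of_mono i hk, Y, l, hY, isARIso_of_comp_right hv hi⟩

theorem uml_of_iso {X Y : PS C} (e : X ≅ Y) {r : ℕ} (h : UML X r) : UML Y r := by
  intro n k m hk hm hm' T φ hφ
  have h1 : tr X hk ≫ (e.hom.app (op n) ≫ φ) = 0 := by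
    rw [← Category.assoc, tr_nat, Category.assoc, hφ, comp_zero]
  have h2 := h n k m hk hm hm' _ h1
  rw [← Category.assoc, tr_nat, Category.assoc] at h2
  rwa [← cancel_epi (e.hom.app (op m)), comp_zero]

/-- The composite of `Fker` with a morphism of systems lands in `Fker`. -/
theorem fker_factors {X Y : PS C} (f : X ⟶ Y) (n : ℕ) {T : C} (x : T ⟶ X.obj (op n))
    (hx : (Fker X n).Factors x) : (Fker Y n).Factors (x ≫ f.app (op n)) := by
  cases n with
  | zero => exact Subobject.top_factors _
  | succ k =>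
    change (kernelSubobject (tr X (Nat.le_succ k))).Factors x at hx
    change (kernelSubobject (tr Y (Nat.le_succ k))).Factors _
    rw [kernelSubobject_factors_iff] at hx ⊢
    rw [Category.assoc, ← tr_nat, ← Category.assoc, hx, zero_comp]

theorem subLE_iff {I : Ideal A} {X : C} (S : Subobject X) : SubLEIdeal I S ↔
    ∀ (Y : C) (φ : X ⟶ Y), HomKilledBy I φ → ∀ (T : C) (x : T ⟶ X), S.Factors x → x ≫ φ = 0 := by
  constructor
  · intro h Y φ hφ T x hx
    rw [← Subobject.factorThru_arrow _ x hx, Category.assoc, h Y φ hφ, comp_zero]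
  · intro h Y φ hφ
    exact h Y φ hφ _ _ (Subobject.factors_self S)

theorem subLE_of_iso {I : Ideal A} {X Y : PS C} (e : X ≅ Y) {n : ℕ}
    (h : SubLEIdeal I (Fker X n)) : SubLEIdeal I (Fker Y n) := by
  rw [subLE_iff] at h ⊢
  intro Z φ hφ T x hx
  have h1 := h Z (e.hom.app (op n) ≫ φ) (homKilledBy_comp _ hφ) T (x ≫ e.inv.app (op n))
    (fker_factors e.inv n x hx)
  rwa [Category.assoc, ← Category.assoc (e.inv.app _), ← NatTrans.comp_app, e.inv_hom_id,
    NatTrans.id_app, Category.id_comp] at h1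

end single

section family

variable {C : Type u} [Category.{v} C] [Abelian C] {K : Type t} {D : K → Type u'}
  [∀ k, Category.{v'} (D k)] [∀ k, Abelian (D k)] {A : Type w} [CommRing A] [Linear A C]
  [∀ k, Linear A (D k)] (G : ∀ k, C ⥤ D k) [∀ k, (G k).Additive] [∀ k, (G k).Linear A]
  [∀ k, PreservesFiniteLimits (G k)] [∀ k, PreservesFiniteColimits (G k)]

section
omit [∀ k, (G k).Additive]

/-- Exact functors jointly reflecting zero objects are jointly faithful. -/
theorem hom_eq_zero [∀ k, (G k).PreservesZeroMorphisms]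
    (hG : ∀ Z : C, (∀ k, IsZero ((G k).obj Z)) → IsZero Z) {X Y : C} (φ : X ⟶ Y)
    (h : ∀ k, (G k).map φ = 0) : φ = 0 := by
  have hz : IsZero (Abelian.image φ) := hG _ fun k => by
    have h1 : (G k).map (Abelian.factorThruImage φ) ≫ (G k).map (Abelian.image.ι φ) = 0 := by
      rw [← Functor.map_comp, Abelian.image.fac, h k]
    rw [IsZero.iff_id_eq_zero, ← cancel_mono ((G k).map (Abelian.image.ι φ)),
      ← cancel_epi ((G k).map (Abelian.factorThruImage φ))]
    simp only [Category.id_comp, zero_comp, comp_zero]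
    exact h1
  rw [← Abelian.image.fac φ, hz.eq_of_tgt (Abelian.factorThruImage φ) 0, zero_comp]

theorem uml_reflect [∀ k, (G k).PreservesZeroMorphisms]
    (hG : ∀ Z : C, (∀ k, IsZero ((G k).obj Z)) → IsZero Z) {X : PS C} {r : ℕ}
    (h : ∀ k, UML (X ⋙ G k) r) : UML X r := by
  intro n k m hk hm hm' T φ hφ
  refine hom_eq_zero G hG _ fun j => ?_
  rw [Functor.map_comp]
  refine h j n k m hk hm hm' ((G j).map φ) ?_
  change (G j).map (tr X hk) ≫ (G j).map φ = 0
  rw [← Functor.map_comp, hφ, Functor.map_zero]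

theorem subLE_reflect [∀ k, (G k).PreservesZeroMorphisms]
    (hG : ∀ Z : C, (∀ k, IsZero ((G k).obj Z)) → IsZero Z) {I : Ideal A} {X : PS C} {n : ℕ}
    (h : ∀ k, SubLEIdeal I (Fker (X ⋙ G k) n)) : SubLEIdeal I (Fker X n) := by
  intro Y φ hφ
  refine hom_eq_zero G hG _ fun j => ?_
  rw [Functor.map_comp]
  refine (subLE_iff _).1 (h j) _ _ (fun a ha => ?_) _ _ ?_
  · rw [← Functor.map_smul, hφ a ha, Functor.map_zero]
  · cases n with
    | zero => exact Subobject.top_factors _
    | succ k =>
      change (kernelSubobject (tr (X ⋙ G j) (Nat.le_succ k))).Factors _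
      rw [kernelSubobject_factors_iff]
      change (G j).map (kernelSubobject (tr X (Nat.le_succ k))).arrow ≫ (G j).map _ = 0
      rw [← Functor.map_comp, kernelSubobject_arrow_comp, Functor.map_zero]

end

omit [Linear A C] [∀ k, (G k).Linear A] in
/-- The universal images of the image by an exact functor. -/
theorem isARAdic_universal_comp {J : Ideal A} {X I : PS C} (k : K) (hX : IsARAdic J (X ⋙ G k))
    (i : I ⟶ X) [Mono i]
    (hi : IsARIso i) {r : ℕ} (p : ∀ n : ℕ, X.obj (op (n + r)) ⟶ I.obj (op n))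
    (hp : ∀ n, p n ≫ i.app (op n) = tr X (Nat.le_add_right n r)) : IsARAdic J (I ⋙ G k) := by
  have hm : Mono (Functor.whiskerRight i (G k) : I ⋙ G k ⟶ X ⋙ G k) :=
    mono_of_app _ fun n => by
      have := mono_app i n
      exact inferInstanceAs (Mono ((G k).map (i.app (op n))))
  refine isARAdic_universal hX (Functor.whiskerRight i (G k))
    (K336.ExactFun.isARIso_whisker i hi (G k)) (r := r) (fun n => (G k).map (p n)) (fun n => ?_)
  change (G k).map (p n) ≫ (G k).map (i.app (op n)) = (G k).map _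
  rw [← Functor.map_comp, hp n]

/-- A system killed termwise by `J ^ (n + 1)` whose images by finitely many exact functors jointly
reflecting zero objects are `J`-adic up to translation is `J`-adic up to translation. -/
theorem isARAdic_reflect [Finite K] (hG : ∀ Z : C, (∀ k, IsZero ((G k).obj Z)) → IsZero Z)
    {J : Ideal A} (hJ : J.FG) {X : PS C} (hX : TermKilled J X)
    (h : ∀ k, IsARAdic J (X ⋙ G k)) : IsARAdic J X := by
  classical
  have := Fintype.ofFinite K
  have h1 : ∀ k, ∃ r, UML (X ⋙ G k) r := fun k => by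
    obtain ⟨-, Y, v, hY, hv⟩ := h k
    exact (isMLAR_iff _).1 (isMLAR_of_isARIso hv (isMLAR_of_isStrict (isStrict_of_isAdic hY)))
  choose r hr using h1
  have hU : UML X (Finset.univ.sup r) :=
    uml_reflect G hG fun k => (hr k).mono (Finset.le_sup (Finset.mem_univ k))
  obtain ⟨I, i, p, hi, hI, hp, hpi, hnat, hC⟩ := exists_universal_images hU
  have hiAR : IsARIso i := (isARIso_iff i).2 ⟨⟨0, kNull_of_mono i⟩, ⟨_, hC⟩⟩
  have h2 : ∀ k, ∃ s : ℕ, 0 < s ∧ ∀ n : ℕ, SubLEIdeal (J ^ (n - s)) (Fker (I ⋙ G k) n) := fun k =>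
    AdicCrit.fker_of_isARAdic (K336.ExactFun.isStrict_comp hI (G k))
      (isARAdic_universal_comp G k (h k) i hiAR p hpi)
  choose s hs0 hs using h2
  have h3 : IsARAdic J I := by
    rw [AdicCrit.isARAdic_iff_fker_le_of_strict (Or.inl hJ) I hI (termKilled_of_mono i hX)]
    refine ⟨Finset.univ.sup s + 1, Nat.succ_pos _, fun n => subLE_reflect G hG fun k => ?_⟩
    intro Z φ hφ
    refine hs k n Z φ fun a ha => hφ a (Ideal.pow_le_pow_right ?_ ha)
    have : s k ≤ Finset.univ.sup s := Finset.le_sup (Finset.mem_univ k)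
    omega
  obtain ⟨-, Y, v, hY, hv⟩ := h3
  exact ⟨hX, Y, v ≫ i, hY, isARIso_comp hv hiAR⟩

end family

end K336.Reflect
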