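import Groth.Prelude.Def_EtCore
import Groth.Agent.Sga4h.ModConstFT
import Groth.Agent.EtModW.K336.Stk2
import Groth.Agent.Etrest.ModSpec

/-!
# Maps from constant sheaves given by global sections
-/

set_option autoImplicit false
universe u

open CategoryTheory CategoryTheory.Limits AlgebraicGeometry Opposite

namespace K336.SecMap

open Groth.Agent
open Groth.Agent.EtpbcA.Germ (Fib fmap pt mem_iff exists_common exists_geomPt exists_lift
  fmap_comp pt_fmap hom_pt)
open Groth.Agent.Etrest.ModGerm Groth.Agent.Etrest.ModLoc Groth.Agent.Sga4h.ModConstFT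

variable {Λ : Type (u + 1)} [CommRing Λ] {X : Scheme.{u}}
  {M : Type (u + 1)} [AddCommGroup M] [Module Λ M]
  (F : EtModW.Mod Λ X) (φ : M →ₗ[Λ] EtModW.sect Λ F (EtCoh.top X))

/-- The structure morphism to the terminal object of the étale site. -/
noncomputable def toTop (V : X.Etale) : V ⟶ EtCoh.top X := (EtCore.topIsTerminal X).from V

theorem toTop_eq {V : X.Etale} (f g : V ⟶ EtCoh.top X) : f = g := (EtCore.topIsTerminal X).hom_ext f g

/-- The presheaf map. -/
noncomputable def preMap : cP Λ X M ⟶ F.obj where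
  app V := ModuleCat.ofHom ((res Λ F (toTop V.unop)).comp φ)
  naturality V W f := by
    ext m
    have h : toTop W.unop = f.unop ≫ toTop V.unop := toTop_eq _ _
    change res Λ F (toTop W.unop) (φ m) = res Λ F f.unop (res Λ F (toTop V.unop) (φ m))
    rw [h, res_comp]

/-- The map from the constant sheaf. -/
noncomputable def ofTop : EtModW.constMod Λ X M ⟶ F :=
  ⟨sheafifyLift X.smallEtaleTopology (preMap F φ) F.property⟩

theorem ev_ofTop (V : X.Etale) (m : M) :
    ev Λ (ofTop F φ) V (constSec Λ X M V m) = res Λ F (toTop V) (φ m) := by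
  have e := toSheafify_sheafifyLift X.smallEtaleTopology (preMap F φ) F.property
  exact congrArg (fun ψ => (ψ.app (op V)).hom m) e

/-- The unique geometric point of the terminal object. -/
theorem exists_topFib {Ω : Type u} [Field Ω] [IsSepClosed Ω] (ξ : Spec (CommRingCat.of Ω) ⟶ X) :
    Nonempty (Fib ξ (EtCoh.top X)) := by
  obtain ⟨t, -⟩ := Scheme.pointSmallEtaleFiberObjToPreimage_surjective ξ rfl (EtCoh.top X)
    ⟨ξ default, rfl⟩
  exact ⟨t⟩

theorem mono_ofTop (h : ∀ (Ω : Type u) [Field Ω] [IsSepClosed Ω] (ξ : Spec (CommRingCat.of Ω) ⟶ X)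
    (t : Fib ξ (EtCoh.top X)), Function.Injective (fun m => germ Λ ξ F t (φ m))) :
    Mono (ofTop F φ) := by
  refine K336.Stk.mono_of_stalk _ fun Ω _ _ ξ => ?_
  obtain ⟨t⟩ := exists_topFib ξ
  rw [injective_iff_map_eq_zero]
  intro a ha
  obtain ⟨m, rfl⟩ := (isConstVia_const (Λ := Λ) (X := X) (M := M) (EtCoh.top X) Ω ξ t).2 a
  have h1 : stalkMap Λ ξ (ofTop F φ) (germ Λ ξ _ t (constSec Λ X M (EtCoh.top X) m)) =
      germ Λ ξ F t (φ m) := by
    rw [stalkMap_germ, ev_ofTop, toTop_eq (toTop (EtCoh.top X)) (𝟙 _), res_id]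
  have h2 : germ Λ ξ F t (φ m) = 0 := h1.symm.trans ha
  have h3 : m = 0 := h Ω ξ t (h2.trans ((congrArg _ (map_zero φ)).trans (map_zero _)).symm)
  rw [h3]
  change germ Λ ξ _ t (constSec Λ X M (EtCoh.top X) 0) = 0
  rw [map_zero, map_zero]

end K336.SecMap
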