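import Groth.Agent.Etrest.ModGerm
import Mathlib.CategoryTheory.Sites.EpiMono
import Mathlib.CategoryTheory.Sites.Abelian

/-!
# Monomorphisms and epimorphisms of sheaves of modules through sections
-/

set_option autoImplicit false
universe u

open CategoryTheory CategoryTheory.Limits AlgebraicGeometry Opposite

namespace K336.Sect

open Groth.Agent.EtpbcA.Germ (Fib fmap pt mem_iff exists_common exists_geomPt exists_lift fmap_comp pt_fmap)
open Groth.Agent.Etrest.ModGerm

variable {Λ : Type (u + 1)} [CommRing Λ] {X : Scheme.{u}} {F G : EtModW.Mod Λ X}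

/-- Monomorphisms of sheaves are injective on sections. -/
theorem ev_injective (φ : F ⟶ G) [Mono φ] (U : X.Etale) : Function.Injective (ev Λ φ U) := by
  have h1 : Mono ((sheafToPresheaf X.smallEtaleTopology (ModuleCat.{u + 1} Λ)).map φ) := inferInstance
  have h2 : Mono (((sheafToPresheaf X.smallEtaleTopology (ModuleCat.{u + 1} Λ)).map φ).app (op U)) :=
    inferInstance
  exact (ModuleCat.mono_iff_injective _).1 h2

theorem mono_of_ev_injective (φ : F ⟶ G) (h : ∀ U : X.Etale, Function.Injective (ev Λ φ U)) :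
    Mono φ := by
  have h1 : Mono ((sheafToPresheaf X.smallEtaleTopology (ModuleCat.{u + 1} Λ)).map φ) := by
    rw [NatTrans.mono_iff_mono_app]
    intro U
    exact (ModuleCat.mono_iff_injective _).2 (h U.unop)
  exact (sheafToPresheaf X.smallEtaleTopology (ModuleCat.{u + 1} Λ)).mono_of_mono_map h1

/-- A locally surjective morphism is an epimorphism. -/
theorem epi_of_local (φ : F ⟶ G) (h : ∀ (U : X.Etale) (s : EtModW.sect Λ G U) (x : U.left),
    ∃ (V : X.Etale) (g : V ⟶ U) (t : EtModW.sect Λ F V), x ∈ Set.range g.left ∧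
      ev Λ φ V t = res Λ G g s) : Epi φ := by
  have : Sheaf.IsLocallySurjective φ := ⟨fun {U} s => by
    rw [mem_iff]
    intro x
    obtain ⟨V, g, t, ⟨v, hv⟩, e⟩ := h U s x
    exact ⟨V, g, ⟨t, e⟩, v, hv⟩⟩
  infer_instance

/-- An epimorphism is locally surjective. -/
theorem exists_local (φ : F ⟶ G) [Epi φ] (U : X.Etale) (s : EtModW.sect Λ G U) (x : U.left) :
    ∃ (V : X.Etale) (g : V ⟶ U) (t : EtModW.sect Λ F V), x ∈ Set.range g.left ∧
      ev Λ φ V t = res Λ G g s := by
  have h : Sheaf.IsLocallySurjective φ := (Sheaf.isLocallySurjective_iff_epi' (A := ModuleCat.{u + 1} Λ) (φ := φ)).2 inferInstance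
  have h2 := h.imageSieve_mem s
  rw [mem_iff] at h2
  obtain ⟨V, g, ⟨t, e⟩, v, hv⟩ := h2 x
  exact ⟨V, g, t, ⟨v, hv⟩, e⟩

end K336.Sect
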