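import Groth.Agent.EtModW.K336.Lin
import Groth.Agent.EtModW.K336.ExactFun
import Groth.Agent.Etrest.LDGerm
import Groth.Agent.Etrest.ModCons
import Groth.Agent.Etrest.ModFT
import Groth.Agent.Etrest.ModSpec
import Groth.Agent.Etcore.LCrit
import Groth.Agent.Etcore.LPull
import Mathlib.AlgebraicGeometry.Morphisms.ClosedImmersion
import Mathlib.CategoryTheory.Linear.FunctorCategory

/-!
# Stalks and inverse images of sheaves of modules: linearity, finiteness, adic systems

* `linear_stalk`, `linear_push`, `linear_pull`;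
* `exists_lift_immersion`: geometric points with image in a locally closed subscheme lift;
* `finite_stalk`: the stalks of constructible sheaves of modules are finite;
* `isAdic_stalk`, `isAdic_pull`.
-/

set_option autoImplicit false
universe u

open CategoryTheory CategoryTheory.Limits AlgebraicGeometry Opposite
open Groth.Agent.Etrest

namespace K336.Stk

/-- Geometric points with image in a locally closed subscheme lift. -/
theorem exists_lift_immersion {Z X : Scheme.{u}} (i : Z ⟶ X) [IsImmersion i]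
    {Ω : Type u} [Field Ω] (ξ : Spec (CommRingCat.of Ω) ⟶ X)
    (h : ξ default ∈ Set.range i) : ∃ ζ : Spec (CommRingCat.of Ω) ⟶ Z, ζ ≫ i = ξ := by
  obtain ⟨z, hz⟩ := h
  obtain ⟨p, -, -⟩ := Scheme.Pullback.exists_preimage_pullback z default hz
  have hs : Surjective (pullback.snd i ξ) := ⟨fun y => ⟨p, Subsingleton.elim _ _⟩⟩
  have him : IsImmersion (pullback.snd i ξ) := inferInstance
  have hc : IsClosedImmersion (pullback.snd i ξ) := by
    refine IsClosedImmersion.of_isPreimmersion _ ?_
    rw [Set.range_eq_univ.2 hs.surj]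
    exact isClosed_univ
  have : IsIso (pullback.snd i ξ) := isIso_of_isClosedImmersion_of_surjective _
  refine ⟨inv (pullback.snd i ξ) ≫ pullback.fst i ξ, ?_⟩
  rw [Category.assoc, pullback.condition, IsIso.inv_hom_id_assoc]

variable {Λ : Type (u + 1)} [CommRing Λ]

theorem finite_of_iso {M N : ModuleCat.{u + 1} Λ} (e : M ≅ N) (h : Module.Finite Λ N) :
    Module.Finite Λ M :=
  Module.Finite.equiv e.symm.toLinearEquiv

/-- The stalks of a constructible sheaf of modules are finitely generated. -/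
theorem finite_stalk {X : Scheme.{u}} {F : EtModW.Mod Λ X} (hF : EtModW.IsConstructible Λ F)
    {Ω : Type u} [Field Ω] [IsSepClosed Ω] (ξ : Spec (CommRingCat.of Ω) ⟶ X) :
    Module.Finite Λ ((EtModW.stalk Λ ξ).obj F : Type (u + 1)) := by
  obtain ⟨U, hU, hx, -⟩ := exists_isAffineOpen_mem_and_subset (x := ξ default) (U := ⊤) trivial
  obtain ⟨n, T, g, h1, -, -, h4, h5⟩ := hF U hU
  have hx' : ξ default ∈ ⋃ i, Set.range (g i) := by rw [h4]; exact hx
  obtain ⟨i, hi⟩ := Set.mem_iUnion.1 hx'
  have := h1 i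
  obtain ⟨ζ, rfl⟩ := exists_lift_immersion (g i) ξ hi
  exact finite_of_iso (LD.mpull Λ (g i) F ζ) (ModSpec.finite_stalk_of_ftlc Λ (h5 i) ζ)

section lin

variable {X Y : Scheme.{u}} (f : X ⟶ Y)

instance linear_push : (EtModW.push Λ f).Linear Λ where
  map_smul _ _ := rfl

instance linear_pull : (EtModW.pull Λ f).Linear Λ :=
  K336.Lin.leftAdjoint_linear (Groth.Agent.Etcore.LPull.pullPushAdj f)

/-- Inverse images preserve adic systems. -/
theorem isAdic_pull {I : Ideal Λ} (hI : I.FG) {F : ARSys.PS (EtModW.Mod Λ Y)}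
    (hF : ARSys.IsAdic I F) : ARSys.IsAdic I (F ⋙ EtModW.pull Λ f) :=
  K336.ExactFun.isAdic_comp (EtModW.pull Λ f) hI hF

variable {Ω : Type u} [Field Ω] [IsSepClosed Ω] (ξ : Spec (CommRingCat.of Ω) ⟶ X)

open ModGerm in
instance linear_stalk : (EtModW.stalk Λ ξ).Linear Λ where
  map_smul {F G} φ r := by
    ext t
    change stalkMap Λ ξ (r • φ) t = r • stalkMap Λ ξ φ t
    obtain ⟨U, y, s, rfl⟩ := germ_surj Λ ξ F t
    rw [stalkMap_germ, stalkMap_germ, ← map_smul]
    rfl

/-- Stalks preserve adic systems. -/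
theorem isAdic_stalk {I : Ideal Λ} (hI : I.FG) {F : ARSys.PS (EtModW.Mod Λ X)}
    (hF : ARSys.IsAdic I F) : ARSys.IsAdic I (F ⋙ EtModW.stalk Λ ξ) :=
  K336.ExactFun.isAdic_comp (EtModW.stalk Λ ξ) hI hF

end lin

end K336.Stk
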