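import Groth.Agent.S2787
import Groth.Agent.Etrest.FinSubGen

/-!
# Finite locally constant subsets on irreducible geometrically unibranch schemes

`exists_isFinSub`: `S` irreducible with geometrically unibranch local rings, `F` a finite type locally constant
sheaf of `Λ`-modules, `m₀` an element of the stalk at a geometric point over the generic point: there is a finite
locally constant subset of `F` containing `m₀`.
-/

set_option autoImplicit false
universe u

open CategoryTheory CategoryTheory.Limits AlgebraicGeometry Opposite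

namespace K336.Unib

open Groth.Agent
open Groth.Agent.EtpbcA.Germ (Fib fmap pt mem_iff exists_common exists_geomPt exists_geomPt_aux exists_lift
  fmap_comp pt_fmap hom_pt)
open Groth.Agent.Etrest.ModGerm Groth.Agent.Etrest.ModLoc Groth.Agent.Etrest.ModSpec Groth.Agent.Etrest.FinSub
open Groth.Agent.Sga4B.SpecLocConst (exists_arrow restrictOpen restrictOpenHom
  restrictOpen_hom_apply pt_restrictOpen_mem)
open Groth.Agent.Etrest.FinSubGen (pt_specializes spMap_comp finite_orbit)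

variable {S : Scheme.{u}} [IrreducibleSpace S]

theorem exists_genE (U : S.Etale) (x : U.left) :
    ∃ z : U.left, z ⤳ x ∧ U.hom z = genericPoint S := by
  have hU : Etale U.hom := U.prop
  exact S2787.exists_lift (X := (show Scheme.{u} from U.left)) (Y := S) U.hom x

/-- The point over the generic point specializing to `x`. -/
noncomputable def genE (U : S.Etale) (x : U.left) : U.left := (exists_genE U x).choose

theorem genE_specializes (U : S.Etale) (x : U.left) : genE U x ⤳ x := (exists_genE U x).choose_spec.1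

theorem hom_genE (U : S.Etale) (x : U.left) : U.hom (genE U x) = genericPoint S :=
  (exists_genE U x).choose_spec.2

theorem eq_genE (hS : ∀ s : S, CAlg2.IsGeomUnibranch (S.presheaf.stalk s)) (U : S.Etale) (x z : U.left)
    (h : z ⤳ x) (hz : U.hom z = genericPoint S) : z = genE U x := by
  have hU : Etale U.hom := U.prop
  exact S2787.unique_lift (X := (show Scheme.{u} from U.left)) (Y := S) U.hom hS x z _ h
    (genE_specializes U x) hz (hom_genE U x)

theorem exists_open_genE (hS : ∀ s : S, CAlg2.IsGeomUnibranch (S.presheaf.stalk s)) (U : S.Etale)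
    (x : U.left) : ∃ V : U.left.Opens, x ∈ V ∧ ∀ y ∈ V, genE U y = genE U x := by
  have hU : Etale U.hom := U.prop
  let f : (show Scheme.{u} from U.left) ⟶ S := U.hom
  have hZ := irreducibleComponent_mem_irreducibleComponents x
  have hopen := ((S2787.result f hS).2 _ hZ).1
  obtain ⟨z, hz, hz'⟩ := (S2787.isIrreducibleComponent f hS _).1 hZ
  have key : ∀ y ∈ irreducibleComponent x, z = genE U y := fun y hy =>
    eq_genE hS U y z (specializes_iff_mem_closure.2 (hz' ▸ hy)) hz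
  exact ⟨⟨_, hopen⟩, mem_irreducibleComponent, fun y hy =>
    (key y hy).symm.trans (key x mem_irreducibleComponent)⟩

theorem pt_eq_gen (hS : ∀ s : S, CAlg2.IsGeomUnibranch (S.presheaf.stalk s))
    {Ω Ω' : Type u} [Field Ω] [IsSepClosed Ω] [Field Ω'] [IsSepClosed Ω']
    {ξ : Spec (CommRingCat.of Ω) ⟶ S} {ξ' : Spec (CommRingCat.of Ω') ⟶ S}
    (hξ' : ξ' default = genericPoint S)
    (a : Scheme.pointSmallEtale ξ' ⟶ Scheme.pointSmallEtale ξ)
    (U : S.Etale) (t : Fib ξ U) : pt ξ' (a.hom.app U t) = genE U (pt ξ t) := by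
  refine eq_genE hS U _ _ (pt_specializes a U t) ?_
  exact (hom_pt ξ' _).trans hξ'

variable {Λ : Type (u + 1)} [CommRing Λ]

/-- Two arrows from a geometric point over the generic point differ by an endomorphism, on a given element. -/
theorem exists_endo (hS : ∀ s : S, CAlg2.IsGeomUnibranch (S.presheaf.stalk s))
    {Ω Ω' : Type u} [Field Ω] [IsSepClosed Ω] [Field Ω'] [IsSepClosed Ω']
    {ξ : Spec (CommRingCat.of Ω) ⟶ S} {ξ' : Spec (CommRingCat.of Ω') ⟶ S}
    (hξ' : ξ' default = genericPoint S)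
    (a b : Scheme.pointSmallEtale ξ' ⟶ Scheme.pointSmallEtale ξ)
    (F : EtModW.Mod Λ S) (m : ((EtModW.stalk Λ ξ).obj F : Type (u + 1))) :
    ∃ σ : Scheme.pointSmallEtale ξ' ⟶ Scheme.pointSmallEtale ξ', spMap Λ b F m = spMap Λ σ F (spMap Λ a F m) := by
  obtain ⟨U, t, s, rfl⟩ := germ_surj Λ ξ F m
  obtain ⟨σ, hσ⟩ := exists_arrow (X := S) (a.hom.app U t) (b.hom.app U t) (by
    rw [pt_eq_gen hS hξ' a, pt_eq_gen hS hξ' b])
  exact ⟨σ, by rw [spMap_germ, spMap_germ, spMap_germ, hσ]⟩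

omit [IrreducibleSpace ↥S] in
theorem spMap_id {Ω : Type u} [Field Ω] [IsSepClosed Ω] (ξ : Spec (CommRingCat.of Ω) ⟶ S)
    (F : EtModW.Mod Λ S) (m : ((EtModW.stalk Λ ξ).obj F : Type (u + 1))) :
    spMap Λ (𝟙 (Scheme.pointSmallEtale ξ)) F m = m := by
  obtain ⟨U, t, s, rfl⟩ := germ_surj Λ ξ F m
  rw [spMap_germ]
  rfl

/-- An arrow from a geometric point over the generic point. -/
theorem nonempty_arrow {Ω Ω' : Type u} [Field Ω] [IsSepClosed Ω] [Field Ω'] [IsSepClosed Ω']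
    (ξ : Spec (CommRingCat.of Ω) ⟶ S) (ξ' : Spec (CommRingCat.of Ω') ⟶ S)
    (hξ' : ξ' default = genericPoint S) :
    Nonempty (Scheme.pointSmallEtale ξ' ⟶ Scheme.pointSmallEtale ξ) :=
  Groth.Agent.Sga4B.SpecArrow.nonempty_pointHom ξ ξ' (by
    rw [hξ']
    exact genericPoint_specializes _)

/-- **Existence of finite locally constant subsets** -/
theorem exists_isFinSub (hS : ∀ s : S, CAlg2.IsGeomUnibranch (S.presheaf.stalk s)) (F : EtModW.Mod Λ S)
    (hF : EtModW.IsFTLocConst Λ F) {Ω₀ : Type u} [Field Ω₀] [IsSepClosed Ω₀]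
    (ξ₀ : Spec (CommRingCat.of Ω₀) ⟶ S) (hξ₀ : ξ₀ default = genericPoint S)
    (m₀ : ((EtModW.stalk Λ ξ₀).obj F : Type (u + 1))) :
    ∃ O : Fam F, IsFinSub F O ∧ m₀ ∈ O Ω₀ ξ₀ ∧
      ∀ (Ω : Type u) [Field Ω] [IsSepClosed Ω] (ξ : Spec (CommRingCat.of Ω) ⟶ S), ∀ m ∈ O Ω ξ,
        ∃ (a : Scheme.pointSmallEtale ξ₀ ⟶ Scheme.pointSmallEtale ξ)
          (σ : Scheme.pointSmallEtale ξ₀ ⟶ Scheme.pointSmallEtale ξ₀),
          spMap Λ a F m = spMap Λ σ F m₀ := by
  classical
  let B : Set ((EtModW.stalk Λ ξ₀).obj F : Type (u + 1)) :=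
    {m | ∃ σ : Scheme.pointSmallEtale ξ₀ ⟶ Scheme.pointSmallEtale ξ₀, m = spMap Λ σ F m₀}
  have hB1 : B.Finite := finite_orbit ξ₀ F m₀
  have hB2 : ∀ (m) (σ : Scheme.pointSmallEtale ξ₀ ⟶ Scheme.pointSmallEtale ξ₀), m ∈ B →
      spMap Λ σ F m ∈ B := by
    rintro _ σ ⟨τ, rfl⟩
    exact ⟨σ ≫ τ, (spMap_comp σ τ F m₀).symm⟩
  let O : Fam F := fun Ω _ _ ξ =>
    {m | ∃ a : Scheme.pointSmallEtale ξ₀ ⟶ Scheme.pointSmallEtale ξ, spMap Λ a F m ∈ B}
  have hO : ∀ (Ω : Type u) [Field Ω] [IsSepClosed Ω] (ξ : Spec (CommRingCat.of Ω) ⟶ S)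
      (a : Scheme.pointSmallEtale ξ₀ ⟶ Scheme.pointSmallEtale ξ)
      (m : ((EtModW.stalk Λ ξ).obj F : Type (u + 1))), m ∈ O Ω ξ ↔ spMap Λ a F m ∈ B := by
    intro Ω _ _ ξ a m
    refine ⟨?_, fun h => ⟨a, h⟩⟩
    rintro ⟨b, hb⟩
    obtain ⟨σ, hσ⟩ := exists_endo hS hξ₀ b a F m
    rw [hσ]
    exact hB2 _ σ hb
  refine ⟨O, ?_, ⟨𝟙 _, 𝟙 _, rfl⟩, fun Ω _ _ ξ m hm => hm⟩
  intro x
  obtain ⟨U, u, M, _, _, _, φ, hu, hφ⟩ := (ftlc_iff F).1 hF x
  obtain ⟨V, huV, hV⟩ := exists_open_genE hS U u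
  let γ : U.left := genE U u
  obtain ⟨t₀, ht₀⟩ : ∃ t₀ : Fib ξ₀ U, pt _ t₀ = γ := by
    have h1 : U.hom γ = ξ₀ default := by
      rw [hξ₀, hom_genE U u]
    have hU : Etale U.hom := U.prop
    obtain ⟨l, hl, hl'⟩ := Scheme.exists_fac_of_etale_of_isSepClosed U.hom ξ₀ γ h1
    exact ⟨Over.homMk l hl, hl'⟩
  let A : Set M := {m | germ Λ ξ₀ F t₀ (φ m) ∈ B}
  have hinj : Function.Injective (fun m => germ Λ ξ₀ F t₀ (φ m)) := (hφ _ _ t₀).1
  refine ⟨restrictOpen U V, ⟨u, huV⟩, M, inferInstance, inferInstance,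
    (res Λ F (restrictOpenHom U V)).comp φ, A, ?_, hφ.res _, ?_, ?_⟩
  · exact (restrictOpen_hom_apply U V ⟨u, huV⟩).trans hu
  · exact hB1.preimage hinj.injOn
  · intro Ω _ _ ξ t
    -- the image point in `U`
    let t' : Fib ξ U := fmap ξ (restrictOpenHom U V) t
    have ht' : pt ξ t' ∈ V := pt_restrictOpen_mem U V ξ t
    have hg' : genE U (pt ξ t') = γ := hV _ ht'
    have hkey : ∀ m : M, germ Λ ξ F t' (φ m) ∈ O Ω ξ ↔ m ∈ A := by
      intro m
      obtain ⟨a⟩ := nonempty_arrow ξ ξ₀ hξ₀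
      rw [hO Ω ξ a, spMap_germ]
      have hpt : pt _ (a.hom.app U t') = γ := by
        rw [pt_eq_gen hS hξ₀ a, hg']
      obtain ⟨σ, hσ⟩ := exists_arrow (X := S) t₀ (a.hom.app U t') (by rw [ht₀, hpt])
      obtain ⟨τ, hτ⟩ := exists_arrow (X := S) (a.hom.app U t') t₀ (by rw [ht₀, hpt])
      constructor
      · intro h1
        have h2 := hB2 _ τ h1
        rw [spMap_germ, hτ] at h2
        exact h2
      · intro h1
        have h2 := hB2 _ σ h1
        rw [spMap_germ, hσ] at h2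
        exact h2
    ext m
    constructor
    · intro hm
      obtain ⟨m', rfl⟩ := (hφ Ω ξ t').2 m
      refine ⟨m', (hkey m').1 hm, ?_⟩
      exact germ_res Λ ξ F _ t (φ m')
    · rintro ⟨m', hm', rfl⟩
      have h1 := (hkey m').2 hm'
      have h2 : germ Λ ξ F t (((res Λ F (restrictOpenHom U V)).comp φ) m') = germ Λ ξ F t' (φ m') :=
        germ_res Λ ξ F _ t (φ m')
      change germ Λ ξ F t (((res Λ F (restrictOpenHom U V)).comp φ) m') ∈ O Ω ξ
      rw [h2]
      exact h1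

end K336.Unib
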