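import Groth.Agent.EtModW.K336.UnibSec
import Groth.Agent.EtModW.K336.FiltAbP
import Groth.Agent.EtModW.K336.Stk2
import Groth.Agent.Sga4h.LFinClass
import Groth.Agent.Etrest.ModFT

/-!
# Filtrations with constant quotients on finite étale covers of degree prime to `ℓ`
-/

set_option autoImplicit false
universe u

open CategoryTheory CategoryTheory.Limits AlgebraicGeometry Opposite

namespace K336.UnibFilt

open Groth.Agent
open Groth.Agent.EtpbcA.Germ (Fib fmap pt)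
open Groth.Agent.Etrest.ModGerm Groth.Agent.Etrest.ModLoc Groth.Agent.Etrest.ModAb
  Groth.Agent.Etcore.SectionCompl Groth.Agent.Etrest.ModStalk Groth.Agent.Etrest
  Groth.Agent.Sga4h.ModConstFT
open K336.FiltAbP

variable {Λ : Type (u + 1)} [CommRing Λ]

/-- Constant sheaves on finite modules. -/
def ConstFin (T : Scheme.{u}) (C : EtModW.Mod Λ T) : Prop :=
  ∃ (M : Type (u + 1)) (_ : AddCommGroup M) (_ : Module Λ M) (_ : Module.Finite Λ M),
    Nonempty (C ≅ EtModW.constMod Λ T M)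

theorem ConstFin.of_iso {T : Scheme.{u}} {C D : EtModW.Mod Λ T} (e : C ≅ D) (h : ConstFin T D) :
    ConstFin T C := by
  obtain ⟨M, i1, i2, i3, ⟨e'⟩⟩ := h
  exact ⟨M, i1, i2, i3, ⟨e ≪≫ e'⟩⟩

theorem ConstFin.pull {T T' : Scheme.{u}} (g : T' ⟶ T) {C : EtModW.Mod Λ T} (h : ConstFin T C) :
    ConstFin T' ((EtModW.pull Λ g).obj C) := by
  obtain ⟨M, i1, i2, i3, ⟨e'⟩⟩ := h
  obtain ⟨e''⟩ := Groth.Agent.Sga4h.LFinClass.nonempty_pull_constMod (Λ := Λ) (M := M) g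
  exact ⟨M, i1, i2, i3, ⟨(EtModW.pull Λ g).mapIso e' ≪≫ e''⟩⟩

theorem ConstFin.ftlc {T : Scheme.{u}} {C : EtModW.Mod Λ T} (h : ConstFin T C) :
    EtModW.IsFTLocConst Λ C := by
  obtain ⟨M, i1, i2, i3, ⟨e'⟩⟩ := h
  exact Etcore.LPullComp.isFTLC_of_iso e'.symm (ftlc_const M)

/-- A nonzero section generates a constant subsheaf. -/
theorem exists_const_sub {T : Scheme.{u}} [IrreducibleSpace T] {G : EtModW.Mod Λ T}
    (hG : EtModW.IsFTLocConst Λ G) (s : EtModW.sect Λ G (EtCoh.top T)) (hs : s ≠ 0) :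
    ∃ (C : EtModW.Mod Λ T) (i : C ⟶ G), Mono i ∧ ConstFin T C ∧
      ∀ (Ω : Type u) [Field Ω] [IsSepClosed Ω] (ξ : Spec (CommRingCat.of Ω) ⟶ T),
        ∃ y : ((EtModW.stalk Λ ξ).obj G : Type (u + 1)), y ≠ 0 ∧
          stalkMap Λ ξ (cokernel.π i) y = 0 := by
  let l : Λ →ₗ[Λ] EtModW.sect Λ G (EtCoh.top T) := LinearMap.toSpanSingleton Λ _ s
  let φ : (Λ ⧸ LinearMap.ker l) →ₗ[Λ] EtModW.sect Λ G (EtCoh.top T) := (LinearMap.ker l).liftQ l le_rfl
  have hφ : Function.Injective φ := by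
    rw [← LinearMap.ker_eq_bot]
    exact Submodule.ker_liftQ_eq_bot _ _ _ le_rfl
  have hm : Mono (K336.SecMap.ofTop G φ) := by
    refine K336.SecMap.mono_ofTop G φ fun Ω _ _ ξ t => ?_
    have h1 : Function.Injective ((germ Λ ξ G t).comp φ) := by
      rw [injective_iff_map_eq_zero]
      intro m hm
      have h2 : φ m = 0 := K336.UnibSec.sect_eq_zero hG (φ m) ξ t hm
      exact hφ (h2.trans (map_zero φ).symm)
    exact h1
  refine ⟨_, K336.SecMap.ofTop G φ, hm, ⟨Λ ⧸ LinearMap.ker l, inferInstance, inferInstance, inferInstance,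
    ⟨Iso.refl _⟩⟩, fun Ω _ _ ξ => ?_⟩
  obtain ⟨t⟩ := K336.SecMap.exists_topFib ξ
  refine ⟨germ Λ ξ G t s, fun h => hs (K336.UnibSec.sect_eq_zero hG s ξ t h), ?_⟩
  have h1 : φ (Submodule.Quotient.mk 1) = s := by
    change l 1 = s
    exact one_smul Λ s
  have h2 : ev Λ (K336.SecMap.ofTop G φ) (EtCoh.top T)
      (constSec Λ T (Λ ⧸ LinearMap.ker l) (EtCoh.top T) (Submodule.Quotient.mk 1)) = s := by
    rw [K336.SecMap.ev_ofTop, K336.SecMap.toTop_eq (K336.SecMap.toTop (EtCoh.top T)) (𝟙 _), res_id, h1]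
  have h3 : ev Λ (cokernel.π (K336.SecMap.ofTop G φ)) (EtCoh.top T) s = 0 := by
    rw [← h2]
    exact congrArg (fun k => (k.hom.app (op (EtCoh.top T))).hom
      (constSec Λ T (Λ ⧸ LinearMap.ker l) (EtCoh.top T) (Submodule.Quotient.mk 1)))
      (cokernel.condition (K336.SecMap.ofTop G φ))
  rw [stalkMap_germ, h3, map_zero]

theorem killedBy_pull {X Y : Scheme.{u}} (f : X ⟶ Y) (m : ℕ) (F : EtModW.Mod Λ Y)
    (h : EtCoh.KilledBy m ((ab Λ Y).obj F)) :
    EtCoh.KilledBy m ((ab Λ X).obj ((EtModW.pull Λ f).obj F)) :=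
  Etcore.PrimeFilt.killedBy_of_epi ((pullIso Λ f).app F).inv m
    (Etcore.PrimeFilt.killedBy_pull f m _ h)

theorem killedBy_coker {X : Scheme.{u}} (m : ℕ) {F G : EtModW.Mod Λ X} (p : F ⟶ G) [Epi p]
    (h : EtCoh.KilledBy m ((ab Λ X).obj F)) : EtCoh.KilledBy m ((ab Λ X).obj G) :=
  Etcore.PrimeFilt.killedBy_of_epi ((ab Λ X).map p) m h

theorem card_id {S : Scheme.{u}} (Ω : Type u) [Field Ω] (η : Spec (CommRingCat.of Ω) ⟶ S) :
    Nat.card (GF (𝟙 S) η) = 1 := by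
  rw [Nat.card_eq_one_iff_unique]
  refine ⟨⟨fun a b => Subtype.ext ?_⟩, ⟨⟨η, Category.comp_id _⟩⟩⟩
  have ha := a.2
  have hb := b.2
  rw [Category.comp_id] at ha hb
  rw [ha, hb]

/-- **Filtrations with constant quotients.** -/
theorem main [IsNoetherianRing Λ] (ℓ : ℕ) [Fact ℓ.Prime] (n : ℕ) {M₀ : Type (u + 1)} [AddCommGroup M₀]
    [Module Λ M₀] [Module.Finite Λ M₀] (N : Submodule Λ M₀) :
    ∀ (S : Scheme.{u}) [IrreducibleSpace S] (_ : ∀ s : S, CAlg2.IsGeomUnibranch (S.presheaf.stalk s))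
      (F : EtModW.Mod Λ S) (_ : EtModW.IsFTLocConst Λ F) (_ : EtCoh.KilledBy (ℓ ^ n) ((ab Λ S).obj F))
      (Ω : Type u) [Field Ω] [IsSepClosed Ω] (ξ : Spec (CommRingCat.of Ω) ⟶ S)
      (_ : Nonempty (((EtModW.stalk Λ ξ).obj F : Type (u + 1)) ≃ₗ[Λ] M₀ ⧸ N)),
      ∃ (T : Scheme.{u}) (f : T ⟶ S) (_ : IsFinite f) (_ : AlgebraicGeometry.Etale f) (d : ℕ),
        ℓ.Coprime d ∧
        (∀ (Ω : Type u) [Field Ω] [IsSepClosed Ω] (η : Spec (CommRingCat.of Ω) ⟶ S),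
          Nat.card (GF f η) = d) ∧
        ∃ m : ℕ, FiltP (ConstFin T) m ((EtModW.pull Λ f).obj F) := by
  have hℓp : ℓ.Prime := Fact.out
  induction N using WellFoundedGT.induction with
  | _ N ih =>
  intro S _ hS F hF hn Ω _ _ ξ ⟨e⟩
  by_cases h0 : Subsingleton ((EtModW.stalk Λ ξ).obj F : Type (u + 1))
  · refine ⟨S, 𝟙 S, inferInstance, inferInstance, 1, Nat.coprime_one_right _, fun Ω _ _ η => card_id Ω η,
      0, FiltP.zero ?_⟩
    have hF0 : IsZero F := K336.Stk.isZero_of_stalk fun Ω' _ _ ξ' => by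
      obtain ⟨e'⟩ := K336.UnibSec.nonempty_stalkEquiv hF ξ' ξ
      exact e'.toEquiv.subsingleton
    exact (EtModW.pull Λ (𝟙 S)).map_isZero hF0
  · obtain ⟨T, f, hf1, hf2, hT, d, hd, hc, s, hs⟩ := K336.UnibSec.exists_cover hS hF ℓ n hn ξ h0
    have hG : EtModW.IsFTLocConst Λ ((EtModW.pull Λ f).obj F) := Etcore.LPullComp.isFTLC_pull f F hF
    obtain ⟨C, i, hi, hC, hy⟩ := exists_const_sub hG s hs
    have hQ : EtModW.IsFTLocConst Λ (cokernel i) := ModFT.ftlc_cokernel i hC.ftlc hG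
    have hQn : EtCoh.KilledBy (ℓ ^ n) ((ab Λ T).obj (cokernel i)) :=
      killedBy_coker _ (cokernel.π i) (killedBy_pull f _ F hn)
    have hTu : ∀ t : T, CAlg2.IsGeomUnibranch (T.presheaf.stalk t) := fun t =>
      S2787.isGeomUnibranch_stalk_of_etale f t (hS _)
    obtain ⟨x⟩ := (inferInstance : Nonempty T)
    obtain ⟨Ω', _, _, ξ', -⟩ := K336.Compo.exists_geom T x
    obtain ⟨e1⟩ := K336.UnibSec.nonempty_stalkEquiv hF (ξ' ≫ f) ξ
    let e' : ((EtModW.stalk Λ ξ').obj ((EtModW.pull Λ f).obj F) : Type (u + 1)) ≃ₗ[Λ] M₀ ⧸ N :=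
      (LD.mpull Λ f F ξ').symm.toLinearEquiv.trans (e1.trans e)
    have hsurj : Function.Surjective (stalkMap Λ ξ' (cokernel.π i)) :=
      (ModuleCat.epi_iff_surjective ((EtModW.stalk Λ ξ').map (cokernel.π i))).1 inferInstance
    obtain ⟨y, hy0, hy1⟩ := hy Ω' ξ'
    let h : M₀ →ₗ[Λ] ((EtModW.stalk Λ ξ').obj (cokernel i) : Type (u + 1)) :=
      (stalkMap Λ ξ' (cokernel.π i)).comp (e'.symm.toLinearMap.comp N.mkQ)
    have hh : Function.Surjective h :=
      hsurj.comp (e'.symm.surjective.comp (Submodule.mkQ_surjective N))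
    have hlt : N < LinearMap.ker h := by
      refine lt_of_le_of_ne ?_ ?_
      · intro m hm
        have h1 : N.mkQ m = 0 := (Submodule.Quotient.mk_eq_zero N).2 hm
        change stalkMap Λ ξ' (cokernel.π i) (e'.symm (N.mkQ m)) = 0
        rw [h1, map_zero, map_zero]
      · intro heq
        obtain ⟨m, hm⟩ := Submodule.mkQ_surjective N (e' y)
        have h1 : m ∈ LinearMap.ker h := by
          change stalkMap Λ ξ' (cokernel.π i) (e'.symm (N.mkQ m)) = 0
          rw [hm, e'.symm_apply_apply, hy1]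
        rw [← heq] at h1
        have h2 : N.mkQ m = 0 := (Submodule.Quotient.mk_eq_zero N).2 h1
        rw [h2] at hm
        exact hy0 (e'.injective (hm.symm.trans (map_zero e').symm))
    obtain ⟨T', g, hg1, hg2, d', hd', hc', m, hfilt⟩ := ih (LinearMap.ker h) hlt T hTu (cokernel i) hQ hQn
      Ω' ξ' ⟨(h.quotKerEquivOfSurjective hh).symm⟩
    have hd0 : d ≠ 0 := by
      rintro rfl
      exact hℓp.one_lt.ne' ((Nat.coprime_zero_right ℓ).1 hd)
    have hd0' : d' ≠ 0 := by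
      rintro rfl
      exact hℓp.one_lt.ne' ((Nat.coprime_zero_right ℓ).1 hd')
    refine ⟨T', g ≫ f, inferInstance, inferInstance, d * d', hd.mul_right hd', fun Ω _ _ η => ?_, m + 1, ?_⟩
    · exact card_gfComp g f η _ d' (hc Ω η) hd0 (fun t => hc' Ω t.1) hd0'
    · have hses : (ShortComplex.mk i (cokernel.π i) (cokernel.condition i)).ShortExact :=
        ShortComplex.ShortExact.mk' (ShortComplex.exact_of_g_is_cokernel _ (cokernelIsCokernel i))
          hi inferInstance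
      have h1 := hses.map_of_exact (EtModW.pull Λ g)
      have h3 := FiltP.succ _ _ _ (fun e h => ConstFin.of_iso e h) (hC.pull g) h1 hfilt
      exact h3.of_iso ((Etcore.LPullComp.pullComp Λ g f).app F)

end K336.UnibFilt
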