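import Groth.Agent.EtModW.K336.Unib
import Groth.Agent.EtModW.K336.Compo
import Groth.Agent.EtModW.K336.SecMap
import Groth.Agent.Etrest.FinSubMod
import Groth.Agent.Etcore.PrimeFilt
import Groth.Agent.Etcore.LPullComp
import Groth.Agent.S0657

/-!
# Nowhere vanishing sections on finite étale covers of degree prime to `ℓ`
-/

set_option autoImplicit false
universe u

open CategoryTheory CategoryTheory.Limits AlgebraicGeometry Opposite

namespace K336.UnibSec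

open Groth.Agent
open Groth.Agent.EtpbcA.Germ (Fib fmap pt mem_iff exists_common exists_geomPt exists_lift
  fmap_comp pt_fmap hom_pt)
open Groth.Agent.Etrest.ModGerm Groth.Agent.Etrest.ModLoc Groth.Agent.Etrest.ModAb
  Groth.Agent.Etcore.SectionCompl Groth.Agent.Etrest.ModStalk Groth.Agent.Etrest.FinSub
open Groth.Agent.Etrest (FinSubMod.toAb)

variable {Λ : Type (u + 1)} [CommRing Λ] {S : Scheme.{u}}

/-- Linear isomorphisms between stalks of finite type locally constant sheaves on an irreducible scheme. -/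
theorem nonempty_stalkEquiv [IrreducibleSpace S] {F : EtModW.Mod Λ S} (hF : EtModW.IsFTLocConst Λ F)
    {Ω Ω' : Type u} [Field Ω] [IsSepClosed Ω] [Field Ω'] [IsSepClosed Ω']
    (ξ : Spec (CommRingCat.of Ω) ⟶ S) (ξ' : Spec (CommRingCat.of Ω') ⟶ S) :
    Nonempty (((EtModW.stalk Λ ξ).obj F : Type (u + 1)) ≃ₗ[Λ]
      ((EtModW.stalk Λ ξ').obj F : Type (u + 1))) := by
  obtain ⟨Ω₀, _, _, ξ₀, h₀⟩ := K336.Compo.exists_geom S (genericPoint S)
  obtain ⟨a⟩ := K336.Unib.nonempty_arrow ξ ξ₀ h₀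
  obtain ⟨b⟩ := K336.Unib.nonempty_arrow ξ' ξ₀ h₀
  exact ⟨(LinearEquiv.ofBijective _ (Etrest.ModSpec.spMap_bijective_of_ftlc Λ hF a)).trans
    (LinearEquiv.ofBijective _ (Etrest.ModSpec.spMap_bijective_of_ftlc Λ hF b)).symm⟩

/-- The germs of sections over the base. -/
theorem spMap_top {Ω Ω' : Type u} [Field Ω] [IsSepClosed Ω] [Field Ω'] [IsSepClosed Ω']
    {ξ : Spec (CommRingCat.of Ω) ⟶ S} {ξ' : Spec (CommRingCat.of Ω') ⟶ S}
    (a : Scheme.pointSmallEtale ξ' ⟶ Scheme.pointSmallEtale ξ) (F : EtModW.Mod Λ S)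
    (s : EtModW.sect Λ F (EtCoh.top S)) (t : Fib ξ (EtCoh.top S)) (t' : Fib ξ' (EtCoh.top S)) :
    spMap Λ a F (germ Λ ξ F t s) = germ Λ ξ' F t' s := by
  rw [spMap_germ]
  have := Etcore.ReprStalk.subsingleton_topFiber ξ'
  rw [Subsingleton.elim (a.hom.app (EtCoh.top S) t) t']

/-- Sections of finite type locally constant sheaves vanishing at a geometric point vanish. -/
theorem sect_eq_zero [IrreducibleSpace S] {F : EtModW.Mod Λ S} (hF : EtModW.IsFTLocConst Λ F)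
    (s : EtModW.sect Λ F (EtCoh.top S)) {Ω : Type u} [Field Ω] [IsSepClosed Ω]
    (ξ : Spec (CommRingCat.of Ω) ⟶ S) (t : Fib ξ (EtCoh.top S)) (h : germ Λ ξ F t s = 0) : s = 0 := by
  obtain ⟨Ω₀, _, _, ξ₀, h₀⟩ := K336.Compo.exists_geom S (genericPoint S)
  obtain ⟨a⟩ := K336.Unib.nonempty_arrow ξ ξ₀ h₀
  obtain ⟨t₀⟩ := K336.SecMap.exists_topFib ξ₀
  have h1 : germ Λ ξ₀ F t₀ s = 0 := by
    rw [← spMap_top a F s t t₀, h, map_zero]
  refine sect_ext_germ Λ F _ _ fun Ω' _ _ ξ' t' => ?_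
  obtain ⟨b⟩ := K336.Unib.nonempty_arrow ξ' ξ₀ h₀
  apply (Etrest.ModSpec.spMap_bijective_of_ftlc Λ hF b).1
  rw [spMap_top b F s t' t₀, h1, map_zero, map_zero]

/-- A finite locally constant abelian subsheaf killed by `ℓ` with a nonzero stalk. -/
theorem exists_flc [IrreducibleSpace S] (hS : ∀ s : S, CAlg2.IsGeomUnibranch (S.presheaf.stalk s))
    {F : EtModW.Mod Λ S} (hF : EtModW.IsFTLocConst Λ F) (ℓ : ℕ) (hℓ : 0 < ℓ) (n : ℕ)
    (hn : EtCoh.KilledBy (ℓ ^ n) ((ab Λ S).obj F))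
    {Ω : Type u} [Field Ω] [IsSepClosed Ω] (ξ : Spec (CommRingCat.of Ω) ⟶ S)
    (h0 : ¬ Subsingleton ((EtModW.stalk Λ ξ).obj F : Type (u + 1))) :
    ∃ (V : EtCoh.Ab S) (i : V ⟶ (ab Λ S).obj F), Mono i ∧ EtCoh.IsFiniteLocallyConstant V ∧
      EtCoh.KilledBy ℓ V ∧ ∃ (Ω₀ : Type u) (_ : Field Ω₀) (_ : IsSepClosed Ω₀)
        (ξ₀ : Spec (CommRingCat.of Ω₀) ⟶ S),
        ¬ Subsingleton ((EtCoh.stalk ξ₀).obj V : Type (u + 1)) := by
  obtain ⟨Ω₀, _, _, ξ₀, hξ₀⟩ := K336.Compo.exists_geom S (genericPoint S)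
  obtain ⟨e⟩ := nonempty_stalkEquiv hF ξ ξ₀
  have h0' : ¬ Subsingleton ((EtModW.stalk Λ ξ₀).obj F : Type (u + 1)) := fun h =>
    h0 e.toEquiv.subsingleton
  rw [not_subsingleton_iff_nontrivial] at h0'
  obtain ⟨x, hx⟩ := exists_ne (0 : ((EtModW.stalk Λ ξ₀).obj F : Type (u + 1)))
  have hkill : ∀ y : ((EtModW.stalk Λ ξ₀).obj F : Type (u + 1)), ℓ ^ n • y = 0 := by
    intro y
    obtain ⟨U, t, s, rfl⟩ := germ_surj Λ ξ₀ F y
    have h1 : ℓ ^ n • s = 0 := hn U s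
    rw [← map_nsmul, h1, map_zero]
  -- an element killed by `ℓ`
  obtain ⟨y, hy0, hy⟩ : ∃ y : ((EtModW.stalk Λ ξ₀).obj F : Type (u + 1)), y ≠ 0 ∧ ℓ • y = 0 := by
    classical
    have hex : ∃ k, ℓ ^ k • x = 0 := ⟨n, hkill x⟩
    have h1 := Nat.find_spec hex
    have h2 : Nat.find hex ≠ 0 := by
      intro h
      rw [h, pow_zero, one_nsmul] at h1
      exact hx h1
    obtain ⟨k, hk⟩ := Nat.exists_eq_succ_of_ne_zero h2
    have h3 : ℓ ^ k • x ≠ 0 := Nat.find_min hex (by omega)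
    refine ⟨ℓ ^ k • x, h3, ?_⟩
    rw [smul_smul, ← pow_succ', ← Nat.succ_eq_add_one, ← hk]
    exact h1
  obtain ⟨O, hO, hO1, hO2⟩ := K336.Unib.exists_isFinSub hS F hF ξ₀ hξ₀ y
  have hO' := Etrest.FinSubMod.isAbFinSub hO
  have hOk : ∀ (Ω : Type u) [Field Ω] [IsSepClosed Ω] (ξ : Spec (CommRingCat.of Ω) ⟶ S),
      ∀ m ∈ O Ω ξ, ℓ • m = 0 := by
    intro Ω _ _ ξ m hm
    obtain ⟨a, σ, h⟩ := hO2 Ω ξ m hm
    apply (Etrest.ModSpec.spMap_bijective_of_ftlc Λ hF a).1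
    rw [map_nsmul, h, ← map_nsmul, hy, map_zero, map_zero]
  refine ⟨Etrest.FinSubAb.gen _ (Etrest.FinSubMod.toAb O), Etrest.FinSubAb.genι _ (Etrest.FinSubMod.toAb O),
    inferInstance, Etrest.FinSubAb.isFLC_gen hO' (ℓ ^ n) (pow_pos hℓ n) hn, ?_, ⟨Ω₀, inferInstance,
    inferInstance, ξ₀, ?_⟩⟩
  · intro U s
    have key : ∀ s' : EtModW.sect Λ F U, (∀ (Ω : Type u) [Field Ω] [IsSepClosed Ω]
        (ξ : Spec (CommRingCat.of Ω) ⟶ S) (t : Fib ξ U), ℓ • germ Λ ξ F t s' = 0) → ℓ • s' = 0 := by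
      intro s' h
      refine sect_ext_germ Λ F _ _ fun Ω _ _ ξ t => ?_
      rw [map_nsmul, map_zero]
      exact h Ω ξ t
    apply Subtype.ext
    refine key s.1 fun Ω _ _ ξ t => ?_
    have h1 : EtpbcA.Germ.germ ξ ((ab Λ S).obj F) t s.1 ∈
        AddSubgroup.closure (Etrest.FinSubMod.toAb O Ω ξ) := s.2 Ω ξ t
    rw [← stalkEquiv_germ Λ ξ F t s.1]
    have h2 : ∀ b ∈ AddSubgroup.closure (Etrest.FinSubMod.toAb O Ω ξ), ℓ • (stalkEquiv Λ ξ F b) = 0 := by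
      intro b hb
      induction hb using AddSubgroup.closure_induction with
      | mem b hb => exact hOk Ω ξ _ hb
      | zero => rw [map_zero, nsmul_zero]
      | add a b _ _ ha hb => rw [map_add, nsmul_add, ha, hb, add_zero]
      | neg a _ ha => rw [map_neg, smul_neg, ha, neg_zero]
    exact h2 _ h1
  · intro hsub
    obtain ⟨b, hb⟩ := (stalkEquiv Λ ξ₀ F).surjective y
    obtain ⟨a, ha⟩ := Etrest.FinSubAb.exists_stalkMap_genι hO' ξ₀ b
      (AddSubgroup.subset_closure (by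
        change stalkEquiv Λ ξ₀ F b ∈ O Ω₀ ξ₀
        rw [hb]
        exact hO1))
    have ha0 : a = 0 := Subsingleton.elim _ _
    rw [ha0, map_zero] at ha
    rw [← ha, map_zero] at hb
    exact hy0 hb.symm

theorem mono_pull {X Y : Scheme.{u}} (f : X ⟶ Y) {A B : EtCoh.Ab Y} (b : A ⟶ B) [Mono b] :
    Mono ((EtCoh.pull f).map b) := by
  have hex : PreservesFiniteLimits (EtCoh.pull f) := Groth.Agent.S0101.result f
  infer_instance

/-- A monomorphism from the constant sheaf `ℤ/ℓ` gives a nonzero section. -/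
theorem sect_ne_zero {X : Scheme.{u}} [Nonempty X] (ℓ : ℕ) [Fact ℓ.Prime] {G : EtCoh.Ab X}
    (b : EtCoh.const X (ZMod ℓ) ⟶ G) [Mono b] :
    EtpbcA.Germ.ev b _ (Etcore.PrimeFilt.constSec X (ZMod ℓ) 1) ≠ 0 := by
  intro h
  obtain ⟨x⟩ := (inferInstance : Nonempty X)
  obtain ⟨Ω, _, _, ξ, -⟩ := K336.Compo.exists_geom X x
  have hmono : Mono ((EtCoh.stalk ξ).map b) := inferInstance
  have hinj : Function.Injective ((EtCoh.stalk ξ).map b) :=
    (AddCommGrpCat.mono_iff_injective _).1 hmono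
  have hsub : Subsingleton ((EtCoh.stalk ξ).obj (EtCoh.const X (ZMod ℓ)) : AddCommGrpCat.{u + 1}) := by
    refine subsingleton_of_forall_eq 0 fun c => ?_
    obtain ⟨k, rfl⟩ := Etcore.PrimeFilt.exists_constSec (ZMod ℓ) ξ c
    obtain ⟨k, rfl⟩ := ZMod.natCast_zmod_surjective k
    have h1 : Etcore.PrimeFilt.constSec X (ZMod ℓ) ((k : ℕ) : ZMod ℓ) =
        k • Etcore.PrimeFilt.constSec X (ZMod ℓ) 1 := by
      rw [← map_nsmul, nsmul_eq_mul, mul_one]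
    rw [h1, map_nsmul]
    have h2 : EtpbcA.Germ.germ ξ (EtCoh.const X (ZMod ℓ)) (Etcore.ReprStalk.topPt ξ)
        (Etcore.PrimeFilt.constSec X (ZMod ℓ) 1) = 0 := by
      apply hinj
      refine (EtpbcA.Germ.germ_map ξ b (Etcore.ReprStalk.topPt ξ) _).trans ?_
      refine (congrArg (EtpbcA.Germ.germ ξ G (Etcore.ReprStalk.topPt ξ)) h).trans ?_
      rw [map_zero]
      exact (map_zero ((EtCoh.stalk ξ).map b).hom).symm
    rw [h2, nsmul_zero]
  have h3 := Etcore.PrimeFilt.card_stalk_const (X := X) (ZMod ℓ) ξ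
  rw [Nat.card_zmod] at h3
  have h4 : Nat.card ((EtCoh.stalk ξ).obj (EtCoh.const X (ZMod ℓ)) : AddCommGrpCat.{u + 1}) = 1 :=
    Nat.card_unique
  rw [h3] at h4
  exact (Fact.out : ℓ.Prime).one_lt.ne' h4

/-- **Nonzero sections on finite étale covers of degree prime to `ℓ`.** -/
theorem exists_cover [IrreducibleSpace S] (hS : ∀ s : S, CAlg2.IsGeomUnibranch (S.presheaf.stalk s))
    {F : EtModW.Mod Λ S} (hF : EtModW.IsFTLocConst Λ F) (ℓ : ℕ) [Fact ℓ.Prime] (n : ℕ)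
    (hn : EtCoh.KilledBy (ℓ ^ n) ((ab Λ S).obj F))
    {Ω : Type u} [Field Ω] [IsSepClosed Ω] (ξ : Spec (CommRingCat.of Ω) ⟶ S)
    (h0 : ¬ Subsingleton ((EtModW.stalk Λ ξ).obj F : Type (u + 1))) :
    ∃ (T : Scheme.{u}) (f : T ⟶ S) (_ : IsFinite f) (_ : Etale f) (_ : IrreducibleSpace T) (d : ℕ),
      ℓ.Coprime d ∧
      (∀ (Ω : Type u) [Field Ω] [IsSepClosed Ω] (η : Spec (CommRingCat.of Ω) ⟶ S),
        Nat.card (GF f η) = d) ∧
      ∃ s : EtModW.sect Λ ((EtModW.pull Λ f).obj F) (EtCoh.top T), s ≠ 0 := by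
  have hℓp : ℓ.Prime := Fact.out
  obtain ⟨V, i, hi, hV, hVk, Ω₀, _, _, ξ₀, hξ₀⟩ := exists_flc hS hF ℓ hℓp.pos n hn ξ h0
  obtain ⟨r, hr⟩ := Groth.Agent.S0657.exists_rank S ℓ V hV hVk
  have hr0 : r ≠ 0 := by
    rintro rfl
    have h1 := hr Ω₀ ξ₀
    rw [pow_zero, Nat.card_eq_one_iff_unique] at h1
    exact hξ₀ h1.1
  obtain ⟨T, f, hf1, hf2, hc, a, ha⟩ := Etcore.PrimeFilt.exists_section ℓ V hV hVk
  have hℓr : 1 < ℓ ^ r := Nat.one_lt_pow hr0 hℓp.one_lt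
  have hcop : ℓ.Coprime (ℓ ^ r - 1) := by
    rw [Nat.Prime.coprime_iff_not_dvd hℓp]
    intro h2
    have h3 : ℓ ∣ ℓ ^ r := dvd_pow_self ℓ hr0
    have h4 : ℓ ∣ 1 := by
      have := (Nat.dvd_sub h3 h2)
      rwa [Nat.sub_sub_self hℓr.le] at this
    exact hℓp.one_lt.ne' (Nat.dvd_one.1 h4)
  have htop : IsClosed ((⊤ : T.Opens) : Set T) := isClosed_univ
  obtain ⟨W, hWc, hWi, d, hd, hWd⟩ := K336.Compo.exists_component f hS ℓ hℓp (ℓ ^ r - 1) ⊤ htop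
    (fun s => by
      obtain ⟨Ω, _, _, η, rfl⟩ := K336.Compo.exists_geom S s
      have hiso : IsIso (⊤ : T.Opens).ι := inferInstanceAs (IsIso T.topIso.hom)
      rw [Scheme.Hom.finrank_comp_left_of_isIso, ← K336.Compo.card_eq_finrank]
      exact hc Ω η _ (hr Ω η) (by omega)) hcop
  have hWf := K336.Compo.isFinite_ι f W hWc
  refine ⟨W, W.ι ≫ f, hWf, inferInstance, hWi, d, hd, fun Ω _ _ η => ?_, ?_⟩
  · rw [K336.Compo.card_eq_finrank]
    exact hWd _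
  · have h1 : Mono ((EtCoh.pull W.ι).map a) := mono_pull W.ι a
    have h2 : Mono ((EtCoh.pull (W.ι ≫ f)).map i) := mono_pull (W.ι ≫ f) i
    let b : EtCoh.const W (ZMod ℓ) ⟶ (ab Λ W).obj ((EtModW.pull Λ (W.ι ≫ f)).obj F) :=
      (EtCore.pullConst W.ι (ZMod ℓ)).inv ≫ (EtCoh.pull W.ι).map a ≫
        ((EtpbcA.PullFLC.pullComp W.ι f).app V).hom ≫ (EtCoh.pull (W.ι ≫ f)).map i ≫
          ((pullIso Λ (W.ι ≫ f)).app F).inv
    have hb : Mono b := inferInstance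
    exact ⟨EtpbcA.Germ.ev b _ (Etcore.PrimeFilt.constSec W (ZMod ℓ) 1), sect_ne_zero ℓ b⟩

end K336.UnibSec
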